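/-
Elements `A ⊗ B` of `Sp₄`.
-/
import Mathlib

set_option autoImplicit false
set_option linter.unusedSectionVars false

namespace Cfsg.Agent.Fusion.SimpleSpFour

open Matrix
open scoped MatrixGroups

variable {F : Type*} [Field F]

local notation "M2" => Matrix (Fin 2) (Fin 2) F
local notation "M4" => Matrix (Fin 2 ⊕ Fin 2) (Fin 2 ⊕ Fin 2) F
local notation "Sp4" => Matrix.symplecticGroup (Fin 2) F

/-- The tensor product of two `2 × 2` matrices. -/
def kron (A B : M2) : M4 := fromBlocks (A 0 0 • B) (A 0 1 • B) (A 1 0 • B) (A 1 1 • B)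

theorem kron_mul (A B C D : M2) : kron A B * kron C D = kron (A * C) (B * D) := by
  simp only [kron, fromBlocks_multiply, smul_mul_assoc, mul_smul_comm, smul_smul, ← add_smul,
    Matrix.mul_apply, Fin.sum_univ_two]
  congr 1 <;> (congr 1; ring)

theorem kron_one : kron (1 : M2) (1 : M2) = 1 := by simp [kron, ← fromBlocks_one]

theorem kron_smul_left (c : F) (A B : M2) : kron (c • A) B = c • kron A B := by
  simp [kron, fromBlocks_smul, smul_smul]

theorem kron_smul_right (c : F) (A B : M2) : kron A (c • B) = c • kron A B := by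
  simp [kron, fromBlocks_smul, smul_smul, mul_comm]

theorem kron_neg_left (A B : M2) : kron (-A) B = -kron A B := by simp [kron, fromBlocks_neg]

theorem kron_neg_right (A B : M2) : kron A (-B) = -kron A B := by simp [kron, fromBlocks_neg]

theorem kron_add_right (A B C : M2) : kron A (B + C) = kron A B + kron A C := by
  simp [kron, fromBlocks_add, smul_add]

theorem kron_zero_right (A : M2) : kron A 0 = 0 := by simp [kron]

theorem kron_transpose (A B : M2) : (kron A B)ᵀ = kron Aᵀ Bᵀ := by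
  simp [kron, fromBlocks_transpose]

/-- The standard form on a plane. -/
def J2 : M2 := !![0, -1; 1, 0]

theorem J_eq : Matrix.J (Fin 2) F = kron J2 1 := by simp [kron, J2, Matrix.J]

theorem mul_J2_mul (A : M2) : A * J2 * Aᵀ = A.det • J2 := by
  ext i j
  fin_cases i <;> fin_cases j <;>
    simp [J2, Matrix.mul_apply, Fin.sum_univ_two, det_fin_two] <;> ring

theorem kron_mem (A B : M2) (h : A.det • (B * Bᵀ) = 1) : kron A B ∈ Sp4 := by
  rw [SymplecticGroup.mem_iff, J_eq, kron_transpose, kron_mul, kron_mul, mul_one, mul_J2_mul,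
    kron_smul_left, ← kron_smul_right, h]

def P0 : M2 := !![1, 0; 0, 0]
def P1 : M2 := !![0, 0; 0, 1]
def Xm : M2 := !![0, 1; 1, 0]
def Zm : M2 := !![1, 0; 0, -1]
def Hm : M2 := !![1, 1; 1, -1]

theorem P_facts : (P0 : M2) * P0 = P0 ∧ (P1 : M2) * P1 = P1 ∧ (P0 : M2) * P1 = 0 ∧
    (P1 : M2) * P0 = 0 ∧ (P0 : M2) + P1 = 1 ∧ (P0 : M2)ᵀ = P0 ∧ (P1 : M2)ᵀ = P1 := by
  refine ⟨?_, ?_, ?_, ?_, ?_, ?_, ?_⟩ <;>
    · ext i j
      fin_cases i <;> fin_cases j <;> simp [P0, P1]

theorem X_facts : (Xm : M2) * Xm = 1 ∧ (Zm : M2) * Zm = 1 ∧ (Zm : M2) * Xm = -(Xm * Zm) ∧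
    (Xm : M2) * P0 = P1 * Xm ∧ (Xm : M2) * P1 = P0 * Xm ∧ (Xm : M2)ᵀ = Xm ∧ (Zm : M2)ᵀ = Zm ∧
    (Hm : M2) * Zm = Xm * Hm ∧ (Hm : M2) * Xm = Zm * Hm ∧ (Hm : M2) * Hmᵀ = (2 : F) • 1 ∧
    (Zm : M2) = P0 - P1 ∧ (Hm : M2) * Hm = (2 : F) • 1 := by
  refine ⟨?_, ?_, ?_, ?_, ?_, ?_, ?_, ?_, ?_, ?_, ?_, ?_⟩ <;>
    · ext i j
      fin_cases i <;> fin_cases j <;>
        simp [P0, P1, Xm, Zm, Hm, Matrix.mul_apply, Fin.sum_univ_two] <;> ring

/-- The block diagonal element `(A, B)`. -/
def pairMat (A B : M2) : M4 := kron A P0 + kron B P1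

theorem pairMat_mul (A B C D : M2) : pairMat A B * pairMat C D = pairMat (A * C) (B * D) := by
  obtain ⟨h00, h11, h01, h10, -, -, -⟩ := P_facts (F := F)
  rw [pairMat, pairMat, pairMat, add_mul, mul_add, mul_add, kron_mul, kron_mul, kron_mul, kron_mul,
    h00, h11, h01, h10, kron_zero_right, kron_zero_right, add_zero, zero_add]

theorem pairMat_self (A : M2) : pairMat A A = kron A 1 := by
  rw [pairMat, ← kron_add_right, (P_facts (F := F)).2.2.2.2.1]

theorem pairMat_neg (A B : M2) : pairMat (-A) (-B) = -pairMat A B := by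
  rw [pairMat, pairMat, kron_neg_left, kron_neg_left, neg_add]

theorem pairMat_one_neg_one (A : M2) : pairMat A (-A) = kron A Zm := by
  rw [pairMat, kron_neg_left, ← kron_neg_right, ← kron_add_right, ← sub_eq_add_neg,
    ← (X_facts (F := F)).2.2.2.2.2.2.2.2.2.2.1]

theorem pairMat_inj {A B C D : M2} (h : pairMat A B = pairMat C D) : A = C ∧ B = D := by
  have h00 := fun i j => congrFun (congrFun h (Sum.inl i)) (Sum.inl j)
  have h01 := fun i j => congrFun (congrFun h (Sum.inl i)) (Sum.inr j)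
  have h10 := fun i j => congrFun (congrFun h (Sum.inr i)) (Sum.inl j)
  have h11 := fun i j => congrFun (congrFun h (Sum.inr i)) (Sum.inr j)
  have a := h00 0 0; have b := h01 0 0; have c := h10 0 0; have d := h11 0 0
  have a' := h00 1 1; have b' := h01 1 1; have c' := h10 1 1; have d' := h11 1 1
  simp [pairMat, kron, P0, P1] at a b c d a' b' c' d'
  constructor <;> ext i j <;> fin_cases i <;> fin_cases j <;> assumption

theorem pairMat_transpose (A B : M2) : (pairMat A B)ᵀ = pairMat Aᵀ Bᵀ := by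
  rw [pairMat, transpose_add, kron_transpose, kron_transpose, (P_facts (F := F)).2.2.2.2.2.1,
    (P_facts (F := F)).2.2.2.2.2.2]
  rfl

theorem pairMat_form (A B : M2) :
    pairMat A B * Matrix.J (Fin 2) F * (pairMat A B)ᵀ = pairMat (A.det • J2) (B.det • J2) := by
  rw [J_eq, ← pairMat_self, pairMat_transpose, pairMat_mul, pairMat_mul, mul_J2_mul, mul_J2_mul]

theorem pairMat_mem_iff (A B : M2) : pairMat A B ∈ Sp4 ↔ A.det = 1 ∧ B.det = 1 := by
  rw [SymplecticGroup.mem_iff, pairMat_form, J_eq, ← pairMat_self]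
  constructor
  · intro h
    obtain ⟨h1, h2⟩ := pairMat_inj h
    have a := congrFun (congrFun h1 1) 0
    have b := congrFun (congrFun h2 1) 0
    simp [J2] at a b
    exact ⟨a, b⟩
  · rintro ⟨hA, hB⟩
    rw [hA, hB, one_smul]

/-- The product of the symplectic groups of two orthogonal planes. -/
def pairHom : SL(2, F) × SL(2, F) →* Sp4 where
  toFun g := ⟨pairMat g.1 g.2, (pairMat_mem_iff _ _).2 ⟨g.1.2, g.2.2⟩⟩
  map_one' := Subtype.ext (by
    show pairMat (1 : M2) (1 : M2) = 1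
    rw [pairMat_self, kron_one])
  map_mul' g h := Subtype.ext (pairMat_mul _ _ _ _).symm

theorem pairHom_coe (a b : SL(2, F)) : ((pairHom (a, b) : Sp4) : M4) = pairMat (a : M2) (b : M2) := rfl

theorem pairHom_injective : Function.Injective (pairHom : SL(2, F) × SL(2, F) →* Sp4) := by
  rintro ⟨a, b⟩ ⟨c, d⟩ h
  obtain ⟨h1, h2⟩ := pairMat_inj (congrArg Subtype.val h)
  exact Prod.ext (Subtype.ext h1) (Subtype.ext h2)

/-- The swap of the two planes. -/
def sX : Sp4 := ⟨kron 1 Xm, kron_mem _ _ (by simp [(X_facts (F := F)).1, (X_facts (F := F)).2.2.2.2.2.1])⟩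

/-- The element with eigenspaces the two planes. -/
def sZ : Sp4 := ⟨kron 1 Zm, kron_mem _ _ (by simp [(X_facts (F := F)).2.1, (X_facts (F := F)).2.2.2.2.2.2.1])⟩

theorem sX_mul_self : (sX : Sp4) * sX = 1 := Subtype.ext (by
  show kron 1 Xm * kron 1 Xm = (1 : M4)
  rw [kron_mul, mul_one, (X_facts (F := F)).1, kron_one])

theorem sX_pair (a b : SL(2, F)) : (sX : Sp4) * pairHom (a, b) = pairHom (b, a) * sX := Subtype.ext (by
  show kron 1 Xm * pairMat (a : M2) (b : M2) = pairMat (b : M2) (a : M2) * kron 1 Xm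
  rw [pairMat, pairMat, mul_add, add_mul, kron_mul, kron_mul, kron_mul, kron_mul,
    (X_facts (F := F)).2.2.2.1, (X_facts (F := F)).2.2.2.2.1, one_mul, one_mul, mul_one, mul_one,
    add_comm])

theorem sX_inv : (sX : Sp4)⁻¹ = sX := inv_eq_of_mul_eq_one_right sX_mul_self

/-- A matrix commuting with `1 ⊗ Z` is block diagonal. -/
theorem exists_pair_of_commute (h2 : (2 : F) ≠ 0) {M : M4}
    (h : M * kron 1 Zm = kron 1 Zm * M) : ∃ A B, M = pairMat A B := by
  rw [← fromBlocks_toBlocks M] at h ⊢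
  set M11 := M.toBlocks₁₁; set M12 := M.toBlocks₁₂; set M21 := M.toBlocks₂₁; set M22 := M.toBlocks₂₂
  refine ⟨!![M11 0 0, M12 0 0; M21 0 0, M22 0 0], !![M11 1 1, M12 1 1; M21 1 1, M22 1 1], ?_⟩
  have key : ∀ {N : M2}, N * Zm = Zm * N → N = !![N 0 0, 0; 0, N 1 1] := by
    intro N hN
    have a := congrFun (congrFun hN 0) 1
    have b := congrFun (congrFun hN 1) 0
    simp [Zm, Matrix.mul_apply, Fin.sum_univ_two] at a b
    have a0 : N 0 1 = 0 := (mul_eq_zero.1 (by linear_combination -a : (2 : F) * N 0 1 = 0)).resolve_left h2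
    have b0 : N 1 0 = 0 := (mul_eq_zero.1 (by linear_combination b : (2 : F) * N 1 0 = 0)).resolve_left h2
    ext i j
    fin_cases i <;> fin_cases j <;> simp [a0, b0]
  simp only [kron, fromBlocks_multiply, Matrix.one_apply_eq, one_smul, zero_smul, mul_zero, zero_mul,
    add_zero, zero_add, Matrix.one_apply_ne (show (0 : Fin 2) ≠ 1 by decide),
    Matrix.one_apply_ne (show (1 : Fin 2) ≠ 0 by decide), fromBlocks_inj] at h
  obtain ⟨e11, e12, e21, e22⟩ := h
  conv_lhs => rw [key e11, key e12, key e21, key e22]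
  simp [pairMat, kron, fromBlocks_add, P0, P1]

end Cfsg.Agent.Fusion.SimpleSpFour
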