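/-
The quaternion Sylow 2-subgroups of `SL₂` in terms of their elements with square `-1`.
-/
import Mathlib
import Cfsg.Agent.Lib.Classical.SylowSL2
import Cfsg.Agent.Lib.GL2.Classes

set_option autoImplicit false
set_option linter.unusedSectionVars false

namespace Cfsg.Agent.Fusion.SimpleSpFour

open Matrix QuaternionGroup
open scoped MatrixGroups

section Model

theorem quaternion_eight_anti : ∀ u v : QuaternionGroup 2, u * u ≠ 1 → v * v ≠ 1 → v ≠ u → v ≠ u⁻¹ →
    v * u = u⁻¹ * v := by decide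

theorem quaternion_eight_third : ∀ u v : QuaternionGroup 2, u * u ≠ 1 → v * v ≠ 1 → v ≠ u →
    v ≠ u⁻¹ → ∀ w : QuaternionGroup 2, w * w ≠ 1 → w ≠ u → w ≠ u⁻¹ → w ≠ v → w ≠ v⁻¹ →
    w = u * v ∨ w = (u * v)⁻¹ := by decide

theorem large_odd_auto {k : ℕ} (hk : 2 ≤ k) (f : MulAut (QuaternionGroup (2 ^ k))) {m : ℕ}
    (hm : Odd m) (hf : f ^ m = 1) : f = 1 := by
  have : NeZero (2 ^ k) := ⟨by positivity⟩
  have h8 : 8 ≤ 2 * 2 ^ k := by
    have := Nat.pow_le_pow_right two_pos hk
    omega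
  have hx4 : ∀ i, (QuaternionGroup.xa i : QuaternionGroup (2 ^ k)) ^ 4 = 1 := QuaternionGroup.xa_pow_four
  have ha4 : (QuaternionGroup.a 1 : QuaternionGroup (2 ^ k)) ^ 4 ≠ 1 := fun h => by
    have := Nat.le_of_dvd (by norm_num) (orderOf_dvd_of_pow_eq_one h)
    rw [QuaternionGroup.orderOf_a_one] at this
    omega
  obtain ⟨r, hr⟩ : ∃ r, f (QuaternionGroup.a 1) = QuaternionGroup.a r := by
    rcases h : f (QuaternionGroup.a 1) with r | r
    · exact ⟨r, rfl⟩
    · exfalso
      refine ha4 (f.injective ?_)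
      rw [map_pow, h, hx4, map_one]
  have hpow : ∀ i : ZMod (2 * 2 ^ k), f (QuaternionGroup.a i) = QuaternionGroup.a (r * i) := by
    intro i
    have e : (QuaternionGroup.a i : QuaternionGroup (2 ^ k)) = QuaternionGroup.a 1 ^ i.val := by
      rw [QuaternionGroup.a_one_pow, ZMod.natCast_zmod_val]
    have e' : ∀ n : ℕ, (QuaternionGroup.a r : QuaternionGroup (2 ^ k)) ^ n =
        QuaternionGroup.a (r * (n : ZMod (2 * 2 ^ k))) := by
      intro n
      induction n with
      | zero => rw [pow_zero, Nat.cast_zero, mul_zero]; rfl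
      | succ n ih => rw [pow_succ, ih, QuaternionGroup.a_mul_a, Nat.cast_succ, mul_add, mul_one]
    rw [e, map_pow, hr, e', ZMod.natCast_zmod_val]
  have hiter : ∀ n : ℕ, (f ^ n) (QuaternionGroup.a 1) = QuaternionGroup.a (r ^ n) := by
    intro n
    induction n with
    | zero => simp
    | succ n ih => rw [pow_succ', MulAut.mul_apply, ih, hpow, pow_succ']
  have hrm : r ^ m = 1 := by
    have := hiter m
    rw [hf, MulAut.one_apply] at this
    exact (QuaternionGroup.a.inj this).symm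
  have hr1 : r = 1 := by
    have hu : IsUnit r := IsUnit.of_pow_eq_one hrm (Nat.pos_iff_ne_zero.1 hm.pos)
    obtain ⟨u, rfl⟩ := hu
    have h1 : u ^ m = 1 := Units.ext (by simpa using hrm)
    have h2 : orderOf u ∣ 2 ^ k := by
      have h3 := orderOf_dvd_natCard u
      have h4 : Nat.totient (2 * 2 ^ k) = 2 ^ k := by
        rw [show 2 * 2 ^ k = 2 ^ (k + 1) by ring, Nat.totient_prime_pow Nat.prime_two (by omega)]
        simp
      rwa [Nat.card_eq_fintype_card, ZMod.card_units_eq_totient, h4] at h3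
    have := Nat.eq_one_of_dvd_coprimes (Nat.Coprime.pow_left k hm.coprime_two_left) h2
      (orderOf_dvd_of_pow_eq_one h1)
    rw [orderOf_eq_one_iff.1 this]
    simp
  subst hr1
  obtain ⟨s, hs⟩ : ∃ s, f (QuaternionGroup.xa 0) = QuaternionGroup.xa s := by
    rcases h : f (QuaternionGroup.xa 0) with s | s
    · exfalso
      rw [show (QuaternionGroup.a s : QuaternionGroup (2 ^ k)) = f (QuaternionGroup.a s) by
        rw [hpow, one_mul]] at h
      simpa using f.injective h
    · exact ⟨s, rfl⟩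
  have hxa : ∀ i : ZMod (2 * 2 ^ k), f (QuaternionGroup.xa i) = QuaternionGroup.xa (s + i) := fun i => by
    rw [show (QuaternionGroup.xa i : QuaternionGroup (2 ^ k)) = QuaternionGroup.xa 0 * QuaternionGroup.a i
      by rw [QuaternionGroup.xa_mul_a, zero_add], map_mul, hs, hpow, one_mul, QuaternionGroup.xa_mul_a]
  have hiter' : ∀ n : ℕ, (f ^ n) (QuaternionGroup.xa 0) = QuaternionGroup.xa ((n : ZMod (2 * 2 ^ k)) * s) := by
    intro n
    induction n with
    | zero => simp
    | succ n ih => rw [pow_succ', MulAut.mul_apply, ih, hxa, Nat.cast_succ]; ring_nf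
  have hs0 : s = 0 := by
    have := hiter' m
    rw [hf, MulAut.one_apply] at this
    have h0 := (QuaternionGroup.xa.inj this).symm
    have hu : IsUnit (m : ZMod (2 * 2 ^ k)) := by
      rw [ZMod.isUnit_iff_coprime, show 2 * 2 ^ k = 2 ^ (k + 1) by ring]
      exact Nat.Coprime.pow_right _ hm.coprime_two_right
    exact hu.mul_right_eq_zero.1 h0
  refine MulEquiv.ext fun g => ?_
  rcases g with i | i
  · rw [hpow, one_mul]; rfl
  · rw [hxa, hs0, zero_add]; rfl

end Model

variable {F : Type*} [Field F] [Fintype F]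

local notation "M2" => Matrix (Fin 2) (Fin 2) F

/-- The elements of `P` with square `-1`. -/
def Quat (P : Subgroup SL(2, F)) (u : SL(2, F)) : Prop := u ∈ P ∧ (u : M2) * (u : M2) = -1

theorem sq_neg_one_iff (h2 : (2 : F) ≠ 0) (u : SL(2, F)) :
    (u : M2) * (u : M2) = -1 ↔ u * u ≠ 1 ∧ u * u * (u * u) = 1 := by
  constructor
  · intro h
    refine ⟨fun h1 => ?_, Subtype.ext ?_⟩
    · have h3 := congrArg (fun g : SL(2, F) => (g : M2) 0 0) h1
      rw [Matrix.SpecialLinearGroup.coe_mul, h] at h3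
      simp only [Matrix.neg_apply, Matrix.one_apply_eq, Matrix.SpecialLinearGroup.coe_one] at h3
      exact h2 (by linear_combination -h3)
    · show (u : M2) * (u : M2) * ((u : M2) * (u : M2)) = 1
      rw [h, neg_mul_neg, one_mul]
  · rintro ⟨h1, h4⟩
    rw [← Matrix.SpecialLinearGroup.coe_mul]
    exact Classical.SylowSL2.eq_neg_one_of_sq h2 _ h1 h4

theorem coe_inv_of_sq {u : SL(2, F)} (h : (u : M2) * (u : M2) = -1) :
    ((u⁻¹ : SL(2, F)) : M2) = -(u : M2) := by
  have h1 : ((u⁻¹ : SL(2, F)) : M2) * (u : M2) = 1 := by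
    rw [← Matrix.SpecialLinearGroup.coe_mul, inv_mul_cancel, Matrix.SpecialLinearGroup.coe_one]
  have := congrArg (· * (u : M2)) h1
  simp only [mul_assoc, h, mul_neg, mul_one, one_mul] at this
  rw [← this, neg_neg]

theorem isConj_of_sq (h2 : (2 : F) ≠ 0) {u v : SL(2, F)} (hu : (u : M2) * (u : M2) = -1)
    (hv : (v : M2) * (v : M2) = -1) : IsConj u v := by
  have key : ∀ {w : SL(2, F)}, (w : M2) * (w : M2) = -1 →
      ¬ GL2.Classes.IsScalar (w : M2) ∧ (w : M2).trace = 0 := by
    intro w hw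
    have h00 := congrFun (congrFun hw 0) 0
    have h11 := congrFun (congrFun hw 1) 1
    have h01 := congrFun (congrFun hw 0) 1
    have hd := w.2
    rw [det_fin_two] at hd
    simp [Matrix.mul_apply, Fin.sum_univ_two] at h00 h11 h01
    refine ⟨fun hs => ?_, ?_⟩
    · obtain ⟨c, hc⟩ := hs
      rw [hc] at h00 hd
      simp at h00 hd
      exact h2 (by linear_combination h00 - hd)
    · rw [trace_fin_two]
      by_contra ht
      have hb : (w : M2) 0 1 = 0 := (mul_eq_zero.1
        (by linear_combination h01 : (w : M2) 0 1 * ((w : M2) 0 0 + (w : M2) 1 1) = 0)).resolve_right ht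
      rw [hb] at h00 h11 hd
      exact ht ((mul_eq_zero.1 (by linear_combination h00 + h11 + 2 * hd :
        ((w : M2) 0 0 + (w : M2) 1 1) * ((w : M2) 0 0 + (w : M2) 1 1) = 0)).elim id id)
  refine GL2.Classes.isConj_SL_of_surjective (key hu).1 (key hv).1 ((key hu).2.trans (key hv).2.symm)
    fun c _ => GL2.Classes.exists_normForm_eq (Or.inr ?_)
  rw [(key hu).2, u.2]
  intro h
  apply mul_ne_zero h2 h2
  linear_combination -h

theorem scalar_of_commute (h2 : (2 : F) ≠ 0) {i j : SL(2, F)} (hi : (i : M2) * (i : M2) = -1)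
    (hj : (j : M2) * (j : M2) = -1) (hij : (i : M2) * (j : M2) = -((j : M2) * (i : M2))) {X : M2}
    (h1 : X * (i : M2) = (i : M2) * X) (h3 : X * (j : M2) = (j : M2) * X) :
    ∃ c : F, X = c • 1 := by
  have hns : ¬ GL2.Classes.IsScalar (i : M2) := by
    rintro ⟨c, hc⟩
    rw [hc] at hij hi
    simp only [smul_mul_assoc, one_mul, mul_smul_comm, mul_one] at hij hi
    have h0 : (2 * c) • (j : M2) = 0 := by
      rw [two_mul, add_smul]; nth_rewrite 1 [hij]; exact neg_add_cancel _
    have := congrArg (fun Y : M2 => Y * (j : M2)) h0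
    simp only [smul_mul_assoc, hj, zero_mul] at this
    have h00 := congrFun (congrFun this 0) 0
    simp at h00
    rcases h00 with h | h
    · exact h2 h
    · rw [h, zero_smul] at hi
      simpa using congrFun (congrFun hi 0) 0
  obtain ⟨a, b, rfl⟩ := (GL2.Classes.commute_iff hns X).1 h1
  refine ⟨a, ?_⟩
  simp only [add_mul, mul_add, smul_mul_assoc, one_mul, mul_smul_comm, mul_one, add_right_inj] at h3
  have h0 : (2 * b) • ((i : M2) * (j : M2)) = 0 := by
    rw [two_mul, add_smul]; nth_rewrite 1 [h3]; rw [hij, smul_neg, add_neg_cancel]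
  have := congrArg (fun Y : M2 => (i : M2) * Y * (j : M2)) h0
  simp only [mul_smul_comm, smul_mul_assoc, ← mul_assoc, hi, neg_mul, one_mul, hj, neg_neg,
    mul_zero, zero_mul] at this
  have h00 := congrFun (congrFun this 0) 0
  simp at h00
  rcases h00 with h | h
  · exact absurd h h2
  · rw [h, zero_smul, add_zero]

theorem xa_model {k : ℕ} (r : ZMod (2 * 2 ^ k)) :
    (QuaternionGroup.xa r * QuaternionGroup.xa r : QuaternionGroup (2 ^ k)) ≠ 1 ∧
      (QuaternionGroup.xa r * QuaternionGroup.xa r * (QuaternionGroup.xa r * QuaternionGroup.xa r) :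
        QuaternionGroup (2 ^ k)) = 1 := by
  have : NeZero (2 ^ k) := ⟨by positivity⟩
  refine ⟨fun h => ?_, by rw [← pow_two, ← pow_two, ← pow_mul]; exact QuaternionGroup.xa_pow_four r⟩
  have h4 := QuaternionGroup.orderOf_xa (n := 2 ^ k) r
  have := Nat.le_of_dvd two_pos (orderOf_dvd_of_pow_eq_one (by rwa [pow_two]) :
    orderOf (QuaternionGroup.xa r : QuaternionGroup (2 ^ k)) ∣ 2)
  omega

section Sylow

variable (hodd : Odd (Fintype.card F)) (P : Sylow 2 SL(2, F))
include hodd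

theorem exists_equiv : ∃ k, 1 ≤ k ∧
    Nonempty ((P : Subgroup SL(2, F)) ≃* QuaternionGroup (2 ^ k)) := by
  obtain ⟨⟨e⟩, h3⟩ := Classical.SylowSL2.sylow_two hodd P
  exact ⟨_, by omega, ⟨e⟩⟩

theorem quat_iff {k : ℕ} (e : (P : Subgroup SL(2, F)) ≃* QuaternionGroup (2 ^ k))
    (x : (P : Subgroup SL(2, F))) :
    Quat (P : Subgroup SL(2, F)) x ↔ e x * e x ≠ 1 ∧ e x * e x * (e x * e x) = 1 := by
  rw [Quat, sq_neg_one_iff (Classical.SylowSL2.two_ne_zero_of_odd hodd)]
  simp only [SetLike.coe_mem, true_and, ← map_mul, ne_eq, map_eq_one_iff e e.injective,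
    Subtype.ext_iff, Subgroup.coe_mul, Subgroup.coe_one]

theorem exists_pair : ∃ i j, Quat (P : Subgroup SL(2, F)) i ∧ Quat (P : Subgroup SL(2, F)) j ∧
    (i : M2) * (j : M2) = -((j : M2) * (i : M2)) := by
  obtain ⟨k, hk, ⟨e⟩⟩ := exists_equiv hodd P
  have : NeZero (2 ^ k) := ⟨by positivity⟩
  set c : ZMod (2 * 2 ^ k) := ((2 ^ (k - 1) : ℕ) : ZMod (2 * 2 ^ k)) with hc
  have hcc : c + c = ((2 ^ k : ℕ) : ZMod (2 * 2 ^ k)) := by
    rw [hc, ← Nat.cast_add, show 2 ^ (k - 1) + 2 ^ (k - 1) = 2 ^ k by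
      rw [← two_mul, ← pow_succ', show k - 1 + 1 = k by omega]]
  set i := e.symm (QuaternionGroup.a c) with hi
  set j := e.symm (QuaternionGroup.xa 0) with hj
  have hiq : Quat (P : Subgroup SL(2, F)) i := by
    rw [quat_iff hodd P e, hi, e.apply_symm_apply, QuaternionGroup.a_mul_a, hcc, QuaternionGroup.a_mul_a,
      ← Nat.cast_add, ← two_mul, ZMod.natCast_self]
    refine ⟨fun h => ?_, rfl⟩
    rw [QuaternionGroup.one_def, QuaternionGroup.a.injEq, CharP.cast_eq_zero_iff (ZMod (2 * 2 ^ k)) (2 * 2 ^ k)] at h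
    have := Nat.le_of_dvd (by positivity) h
    have : 0 < 2 ^ k := by positivity
    omega
  have hjq : Quat (P : Subgroup SL(2, F)) j := by
    rw [quat_iff hodd P e, hj, e.apply_symm_apply]; exact xa_model 0
  refine ⟨i, j, hiq, hjq, ?_⟩
  have h : j * i = i⁻¹ * j := by
    apply e.injective
    rw [map_mul, map_mul, map_inv, hi, hj, e.apply_symm_apply, e.apply_symm_apply,
      eq_inv_mul_iff_mul_eq, QuaternionGroup.xa_mul_a, QuaternionGroup.a_mul_xa]
    congr 1
    abel
  have h' := congrArg (fun x : (P : Subgroup SL(2, F)) => ((x : SL(2, F)) : M2)) h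
  simp only [Subgroup.coe_mul, Subgroup.coe_inv, Matrix.SpecialLinearGroup.coe_mul] at h'
  rw [h', coe_inv_of_sq hiq.2, neg_mul, neg_neg]

theorem closure_quat : (P : Subgroup SL(2, F)) = Subgroup.closure {u | Quat (P : Subgroup SL(2, F)) u} := by
  refine le_antisymm (fun g hg => ?_) ((Subgroup.closure_le _).2 fun u hu => hu.1)
  obtain ⟨k, hk, ⟨e⟩⟩ := exists_equiv hodd P
  have hxa : ∀ r, ((e.symm (QuaternionGroup.xa r) : (P : Subgroup SL(2, F))) : SL(2, F)) ∈
      Subgroup.closure {u | Quat (P : Subgroup SL(2, F)) u} := fun r =>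
    Subgroup.subset_closure (by
      show Quat _ _
      rw [quat_iff hodd P e, e.apply_symm_apply]; exact xa_model r)
  rcases h : e ⟨g, hg⟩ with r | r
  · have h1 : (⟨g, hg⟩ : (P : Subgroup SL(2, F))) = e.symm (QuaternionGroup.xa 0) *
        e.symm (QuaternionGroup.xa (r - ((2 ^ k : ℕ) : ZMod (2 * 2 ^ k)))) := by
      rw [← map_mul, QuaternionGroup.xa_mul_xa, MulEquiv.eq_symm_apply, h]
      congr 1
      ring
    rw [show g = ((⟨g, hg⟩ : (P : Subgroup SL(2, F))) : SL(2, F)) from rfl, h1, Subgroup.coe_mul]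
    exact Subgroup.mul_mem _ (hxa _) (hxa _)
  · rw [show g = ((⟨g, hg⟩ : (P : Subgroup SL(2, F))) : SL(2, F)) from rfl,
      show (⟨g, hg⟩ : (P : Subgroup SL(2, F))) = e.symm (QuaternionGroup.xa r) by
        rw [MulEquiv.eq_symm_apply, h]]
    exact hxa r

/-- If an odd element of the normalizer moves an element, then `P` is of order eight. -/
theorem eight_of_moved {b : SL(2, F)}
    (hb : b ∈ Subgroup.normalizer ((P : Subgroup SL(2, F)) : Set SL(2, F))) (hbo : Odd (orderOf b))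
    {u₀ : SL(2, F)} (hu₀ : Quat (P : Subgroup SL(2, F)) u₀) (hmove : b * u₀ * b⁻¹ ≠ u₀) :
    (∀ u v, Quat (P : Subgroup SL(2, F)) u → Quat (P : Subgroup SL(2, F)) v →
      (v : M2) ≠ u → (v : M2) ≠ -(u : M2) → (u : M2) * (v : M2) = -((v : M2) * (u : M2))) ∧
    (∀ u v w, Quat (P : Subgroup SL(2, F)) u → Quat (P : Subgroup SL(2, F)) v →
      Quat (P : Subgroup SL(2, F)) w → (v : M2) ≠ u → (v : M2) ≠ -(u : M2) →
      (w : M2) ≠ u → (w : M2) ≠ -(u : M2) → (w : M2) ≠ v → (w : M2) ≠ -(v : M2) →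
      (w : M2) = (u : M2) * (v : M2) ∨ (w : M2) = -((u : M2) * (v : M2))) := by
  obtain ⟨k, hk, ⟨e⟩⟩ := exists_equiv hodd P
  rcases eq_or_lt_of_le hk with hk1 | hk2
  · subst hk1
    have hne : ∀ {x y : (P : Subgroup SL(2, F))}, ((x : SL(2, F)) : M2) ≠ ((y : SL(2, F)) : M2) →
        e x ≠ e y := fun {x y} h he => h (by rw [e.injective he])
    constructor
    · intro u v hu hv h1 h2
      have h := quaternion_eight_anti (e ⟨u, hu.1⟩) (e ⟨v, hv.1⟩) ((quat_iff hodd P e ⟨u, hu.1⟩).1 hu).1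
        ((quat_iff hodd P e ⟨v, hv.1⟩).1 hv).1 (hne h1) (by
          rw [← map_inv]; exact hne (by rw [Subgroup.coe_inv, coe_inv_of_sq hu.2]; exact h2))
      rw [← map_inv, ← map_mul, ← map_mul] at h
      have h' := congrArg (fun x : (P : Subgroup SL(2, F)) => ((x : SL(2, F)) : M2)) (e.injective h)
      simp only [Subgroup.coe_mul, Subgroup.coe_inv, Matrix.SpecialLinearGroup.coe_mul] at h'
      rw [h', coe_inv_of_sq hu.2, neg_mul, neg_neg]
    · intro u v w hu hv hw h1 h2 h3 h4 h5 h6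
      have hi : ∀ {x : SL(2, F)} (hx : Quat (P : Subgroup SL(2, F)) x),
          (((⟨x, hx.1⟩ : (P : Subgroup SL(2, F)))⁻¹ : (P : Subgroup SL(2, F))) : SL(2, F)) = x⁻¹ :=
        fun _ => rfl
      rcases quaternion_eight_third (e ⟨u, hu.1⟩) (e ⟨v, hv.1⟩)
        ((quat_iff hodd P e ⟨u, hu.1⟩).1 hu).1 ((quat_iff hodd P e ⟨v, hv.1⟩).1 hv).1 (hne h1)
        (by rw [← map_inv]; exact hne (by rw [hi hu, coe_inv_of_sq hu.2]; exact h2))
        (e ⟨w, hw.1⟩) ((quat_iff hodd P e ⟨w, hw.1⟩).1 hw).1 (hne h3)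
        (by rw [← map_inv]; exact hne (by rw [hi hu, coe_inv_of_sq hu.2]; exact h4)) (hne h5)
        (by rw [← map_inv]; exact hne (by rw [hi hv, coe_inv_of_sq hv.2]; exact h6)) with h | h
      · left
        rw [← map_mul] at h
        exact congrArg (fun x : (P : Subgroup SL(2, F)) => ((x : SL(2, F)) : M2)) (e.injective h)
      · right
        rw [← map_mul, ← map_inv] at h
        have h' := congrArg (fun x : (P : Subgroup SL(2, F)) => ((x : SL(2, F)) : M2)) (e.injective h)
        simp only [Subgroup.coe_mul, Subgroup.coe_inv, _root_.mul_inv_rev,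
          Matrix.SpecialLinearGroup.coe_mul] at h'
        rw [h', coe_inv_of_sq hu.2, coe_inv_of_sq hv.2, neg_mul_neg]
        have h7 := quaternion_eight_anti (e ⟨u, hu.1⟩) (e ⟨v, hv.1⟩) ((quat_iff hodd P e ⟨u, hu.1⟩).1 hu).1
          ((quat_iff hodd P e ⟨v, hv.1⟩).1 hv).1 (hne h1) (by
            rw [← map_inv]; exact hne (by rw [hi hu, coe_inv_of_sq hu.2]; exact h2))
        rw [← map_inv, ← map_mul, ← map_mul] at h7
        have h8 := congrArg (fun x : (P : Subgroup SL(2, F)) => ((x : SL(2, F)) : M2)) (e.injective h7)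
        simp only [Subgroup.coe_mul, Subgroup.coe_inv, Matrix.SpecialLinearGroup.coe_mul] at h8
        rw [h8, coe_inv_of_sq hu.2, neg_mul]
  · exfalso
    apply hmove
    set f := (P : Subgroup SL(2, F)).normalizerMonoidHom ⟨b, hb⟩
    have hfm : (MulAut.congr e f) ^ orderOf b = 1 := by
      rw [← map_pow, ← map_pow, show (⟨b, hb⟩ : Subgroup.normalizer _) ^ orderOf b = 1 from
        Subtype.ext (by simp [pow_orderOf_eq_one]), map_one, map_one]
    have h1 := large_odd_auto hk2 _ hbo hfm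
    rw [← map_one (MulAut.congr e)] at h1
    exact congrArg (fun g : MulAut (P : Subgroup SL(2, F)) =>
      ((g ⟨u₀, hu₀.1⟩ : (P : Subgroup SL(2, F))) : SL(2, F))) ((MulAut.congr e).injective h1)

end Sylow

end Cfsg.Agent.Fusion.SimpleSpFour
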