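/-
Equality up to sign, and what it gives in a quaternion Sylow subgroup of order eight.
-/
import Mathlib
import Cfsg.Agent.Lib.Fusion.SimpleSpFour.Quaternion

set_option autoImplicit false
set_option linter.unusedSectionVars false

namespace Cfsg.Agent.Fusion.SimpleSpFour

open Matrix
open scoped MatrixGroups

/-- Equality up to sign. -/
def PM {R : Type*} [Neg R] (A B : R) : Prop := A = B ∨ A = -B

namespace PM

variable {R : Type*} [Ring R] {A B C D : R}

theorem refl (A : R) : PM A A := Or.inl rfl

theorem symm (h : PM A B) : PM B A := by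
  rcases h with rfl | rfl
  · exact Or.inl rfl
  · exact Or.inr (neg_neg B).symm

theorem trans (h : PM A B) (h' : PM B C) : PM A C := by
  rcases h with rfl | rfl
  · exact h'
  · rcases h' with rfl | rfl
    · exact Or.inr rfl
    · exact Or.inl (neg_neg C)

theorem mul (h : PM A B) (h' : PM C D) : PM (A * C) (B * D) := by
  rcases h with rfl | rfl <;> rcases h' with rfl | rfl
  · exact Or.inl rfl
  · exact Or.inr (mul_neg _ _)
  · exact Or.inr (neg_mul _ _)
  · exact Or.inl (neg_mul_neg _ _)

theorem mul_left (X : R) (h : PM A B) : PM (X * A) (X * B) := (refl X).mul h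

theorem mul_right (X : R) (h : PM A B) : PM (A * X) (B * X) := h.mul (refl X)

theorem neg (h : PM A B) : PM (-A) B := (show PM (-A) A from Or.inr rfl).trans h

/-- Commuting up to sign is closed under products. -/
theorem comm_mul (h : PM (A * C) (C * A)) (h' : PM (B * C) (C * B)) :
    PM (A * B * C) (C * (A * B)) := by
  rw [mul_assoc, ← mul_assoc C]
  exact (h'.mul_left A).trans (by rw [← mul_assoc]; exact h.mul_right B)

end PM

variable {F : Type*} [Field F] [Fintype F]

local notation "M2" => Matrix (Fin 2) (Fin 2) F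

theorem pm_one_of_smul {a : SL(2, F)} {c : F} (h : (a : M2) = c • 1) : PM (a : M2) 1 := by
  have hd := a.2
  rw [h, det_smul, det_one, mul_one, Fintype.card_fin, pow_two, mul_self_eq_one_iff] at hd
  rcases hd with rfl | rfl
  · exact Or.inl (by rw [h, one_smul])
  · exact Or.inr (by rw [h, neg_smul, one_smul])

theorem quat_conj {P : Subgroup SL(2, F)} {b u : SL(2, F)}
    (hb : b ∈ Subgroup.normalizer (P : Set SL(2, F))) (hu : Quat P u) : Quat P (b * u * b⁻¹) := by
  refine ⟨(Subgroup.mem_normalizer_iff.1 hb u).1 hu.1, ?_⟩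
  rw [← Matrix.SpecialLinearGroup.coe_mul, show b * u * b⁻¹ * (b * u * b⁻¹) = b * (u * u) * b⁻¹ by group,
    Matrix.SpecialLinearGroup.coe_mul, Matrix.SpecialLinearGroup.coe_mul,
    Matrix.SpecialLinearGroup.coe_mul, hu.2, mul_neg, mul_one, neg_mul,
    ← Matrix.SpecialLinearGroup.coe_mul, mul_inv_cancel, Matrix.SpecialLinearGroup.coe_one]

section Sylow

variable (hodd : Odd (Fintype.card F)) (P : Sylow 2 SL(2, F))

/-- Any two elements of square `-1` are equal up to sign or anticommute. -/
def IsEight : Prop :=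
  ∀ u v, Quat (P : Subgroup SL(2, F)) u → Quat (P : Subgroup SL(2, F)) v →
    PM ((u : M2) * (v : M2)) ((v : M2) * (u : M2))

include hodd

theorem mem_of_pm {x a : SL(2, F)} (ha : a ∈ (P : Subgroup SL(2, F))) (h : PM (x : M2) (a : M2)) :
    x ∈ (P : Subgroup SL(2, F)) := by
  obtain ⟨i, -, hi, -, -⟩ := exists_pair hodd P
  rcases h with h | h
  · rwa [show x = a from Subtype.ext h]
  · rw [show x = a * (i * i) from Subtype.ext (by
      simp only [Matrix.SpecialLinearGroup.coe_mul, hi.2, mul_neg, mul_one]; exact h)]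
    exact mul_mem ha (mul_mem hi.1 hi.1)

theorem comm_of_eight (h8 : IsEight P) {x y : SL(2, F)} (hx : x ∈ (P : Subgroup SL(2, F)))
    (hy : y ∈ (P : Subgroup SL(2, F))) : PM ((x : M2) * (y : M2)) ((y : M2) * (x : M2)) := by
  have inv : ∀ {z w : SL(2, F)}, PM ((z : M2) * (w : M2)) ((w : M2) * (z : M2)) →
      PM (((z⁻¹ : SL(2, F)) : M2) * (w : M2)) ((w : M2) * ((z⁻¹ : SL(2, F)) : M2)) := by
    intro z w h
    have h' := ((h.mul_left ((z⁻¹ : SL(2, F)) : M2)).mul_right ((z⁻¹ : SL(2, F)) : M2))
    simp only [← Matrix.SpecialLinearGroup.coe_mul] at h' ⊢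
    rw [show z⁻¹ * (z * w) * z⁻¹ = w * z⁻¹ by group, show z⁻¹ * (w * z) * z⁻¹ = z⁻¹ * w by group] at h'
    exact h'.symm
  have step : ∀ {x : SL(2, F)}, x ∈ (P : Subgroup SL(2, F)) → ∀ u, Quat (P : Subgroup SL(2, F)) u →
      PM ((x : M2) * (u : M2)) ((u : M2) * (x : M2)) := by
    intro x hx
    rw [closure_quat hodd P] at hx
    induction hx using Subgroup.closure_induction with
    | mem x hx => exact fun u hu => h8 x u hx hu
    | one => intro u _; simp only [Matrix.SpecialLinearGroup.coe_one, one_mul, mul_one]; exact PM.refl _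
    | mul x y _ _ ihx ihy => intro u hu; exact PM.comm_mul (ihx u hu) (ihy u hu)
    | inv x _ ih => intro u hu; exact inv (ih u hu)
  rw [closure_quat hodd P] at hy
  induction hy using Subgroup.closure_induction with
  | mem y hy => exact step hx y hy
  | one => simp only [Matrix.SpecialLinearGroup.coe_one, one_mul, mul_one]; exact PM.refl _
  | mul a b _ _ iha ihb => exact (PM.comm_mul iha.symm ihb.symm).symm
  | inv a _ ih => exact (inv ih.symm).symm

theorem inv_of_eight (h8 : IsEight P) {x : SL(2, F)} (hx : x ∈ (P : Subgroup SL(2, F))) :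
    PM ((x⁻¹ : SL(2, F)) : M2) (x : M2) := by
  have key : PM ((x : M2) * (x : M2)) 1 := by
    have hxc := hx
    rw [closure_quat hodd P] at hxc
    clear hx
    induction hxc using Subgroup.closure_induction with
    | mem x hx => exact Or.inr hx.2
    | one => exact Or.inl (by simp)
    | mul a b ha hb iha ihb =>
      rw [← closure_quat hodd P] at ha hb
      simp only [Matrix.SpecialLinearGroup.coe_mul]
      have h1 := ((comm_of_eight hodd P h8 hb ha).mul_left (a : M2)).mul_right (b : M2)
      have h2 := iha.mul ihb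
      rw [one_mul] at h2
      refine PM.trans ?_ h2
      simpa only [← mul_assoc] using h1
    | inv a _ ih =>
      have h := ((ih.mul_left ((a⁻¹ : SL(2, F)) : M2)).mul_left ((a⁻¹ : SL(2, F)) : M2)).symm
      rw [mul_one, ← Matrix.SpecialLinearGroup.coe_mul, ← Matrix.SpecialLinearGroup.coe_mul,
        ← Matrix.SpecialLinearGroup.coe_mul, ← Matrix.SpecialLinearGroup.coe_mul,
        show a⁻¹ * (a⁻¹ * (a * a)) = 1 by group, Matrix.SpecialLinearGroup.coe_one] at h
      simpa only [Matrix.SpecialLinearGroup.coe_mul] using h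
  have := key.mul_left ((x⁻¹ : SL(2, F)) : M2)
  rw [← mul_assoc, mul_one, ← Matrix.SpecialLinearGroup.coe_mul, inv_mul_cancel,
    Matrix.SpecialLinearGroup.coe_one, one_mul] at this
  exact this.symm

end Sylow

end Cfsg.Agent.Fusion.SimpleSpFour
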