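/-
A Sylow 2-subgroup of `Sp₄(q)`, `q` odd, and its image in a central quotient.
-/
import Mathlib
import Cfsg.Agent.Lib.Fusion.SimpleSpFour.PM
import Cfsg.Agent.Lib.Fusion.SimpleSpFour.Blocks
import Cfsg.Agent.Lib.Classical.Symplectic
import Cfsg.Agent.Lib.Classical.GL2
import Cfsg.Agent.Lib.Fusion.Saturation

set_option autoImplicit false
set_option linter.unusedSectionVars false

namespace Cfsg.Agent.Fusion.SimpleSpFour

open Matrix
open scoped MatrixGroups

variable {F : Type*} [Field F] [Fintype F]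

local notation "M2" => Matrix (Fin 2) (Fin 2) F
local notation "M4" => Matrix (Fin 2 ⊕ Fin 2) (Fin 2 ⊕ Fin 2) F
local notation "Sp4" => Matrix.symplecticGroup (Fin 2) F

theorem pairMat_ne_mul_sX (h1 : (1 : F) ≠ 0) {A B C D : M2} (hA : A.det = 1) :
    pairMat A B ≠ pairMat C D * kron 1 Xm := by
  intro h
  have e : pairMat C D * kron 1 Xm = kron C (P0 * Xm) + kron D (P1 * Xm) := by
    rw [pairMat, add_mul, kron_mul, kron_mul, mul_one, mul_one]
  rw [e] at h
  have a := congrFun (congrFun h (Sum.inl 0)) (Sum.inl 0)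
  have b := congrFun (congrFun h (Sum.inl 0)) (Sum.inr 0)
  simp [pairMat, kron, P0, P1, Xm] at a b
  rw [det_fin_two, a, b, zero_mul, zero_mul, sub_zero] at hA
  exact h1 hA.symm

theorem pairMat_mul_sX_inj {A B C D : M2}
    (h : pairMat A B * kron 1 Xm = pairMat C D * kron 1 Xm) : A = C ∧ B = D := by
  have := congrArg (· * kron (1 : M2) Xm) h
  simp only [mul_assoc, kron_mul, mul_one, (X_facts (F := F)).1, kron_one] at this
  exact pairMat_inj this

theorem pm_pair_left {A B C D : M2} (h : PM (pairMat A B) (pairMat C D)) : PM A C ∧ PM B D := by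
  rcases h with h | h
  · exact ⟨Or.inl (pairMat_inj h).1, Or.inl (pairMat_inj h).2⟩
  · rw [← pairMat_neg] at h
    exact ⟨Or.inr (pairMat_inj h).1, Or.inr (pairMat_inj h).2⟩

variable (P : Sylow 2 SL(2, F))

/-- The wreathed product of `P` with the swap. -/
def shat : Subgroup Sp4 where
  carrier := {g | ∃ a b : SL(2, F), a ∈ (P : Subgroup SL(2, F)) ∧ b ∈ (P : Subgroup SL(2, F)) ∧
    (g = pairHom (a, b) ∨ g = pairHom (a, b) * sX)}
  one_mem' := ⟨1, 1, one_mem _, one_mem _, Or.inl (map_one pairHom).symm⟩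
  mul_mem' := by
    rintro g h ⟨a, b, ha, hb, hg⟩ ⟨c, d, hc, hd, hh⟩
    rcases hg with rfl | rfl <;> rcases hh with rfl | rfl
    · exact ⟨a * c, b * d, mul_mem ha hc, mul_mem hb hd, Or.inl (map_mul pairHom (a, b) (c, d)).symm⟩
    · exact ⟨a * c, b * d, mul_mem ha hc, mul_mem hb hd, Or.inr (by
        rw [← mul_assoc, ← map_mul, Prod.mk_mul_mk])⟩
    · exact ⟨a * d, b * c, mul_mem ha hd, mul_mem hb hc, Or.inr (by
        rw [mul_assoc, sX_pair, ← mul_assoc, ← map_mul, Prod.mk_mul_mk])⟩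
    · exact ⟨a * d, b * c, mul_mem ha hd, mul_mem hb hc, Or.inl (by
        rw [mul_assoc, ← mul_assoc sX, sX_pair, mul_assoc (pairHom (d, c)), sX_mul_self, mul_one,
          ← map_mul, Prod.mk_mul_mk])⟩
  inv_mem' := by
    rintro g ⟨a, b, ha, hb, rfl | rfl⟩
    · exact ⟨a⁻¹, b⁻¹, inv_mem ha, inv_mem hb, Or.inl (map_inv pairHom (a, b)).symm⟩
    · exact ⟨b⁻¹, a⁻¹, inv_mem hb, inv_mem ha, Or.inr (by
        rw [_root_.mul_inv_rev, sX_inv, ← map_inv, Prod.inv_mk, sX_pair])⟩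

theorem pair_mem_shat {a b : SL(2, F)} (ha : a ∈ (P : Subgroup SL(2, F)))
    (hb : b ∈ (P : Subgroup SL(2, F))) : pairHom (a, b) ∈ shat P := ⟨a, b, ha, hb, Or.inl rfl⟩

theorem sX_mem_shat : (sX : Sp4) ∈ shat P :=
  ⟨1, 1, one_mem _, one_mem _, Or.inr (by rw [Prod.mk_one_one, map_one, one_mul])⟩

theorem of_pair_mem_shat {a b : SL(2, F)} (h : pairHom (a, b) ∈ shat P) :
    a ∈ (P : Subgroup SL(2, F)) ∧ b ∈ (P : Subgroup SL(2, F)) := by
  obtain ⟨c, d, hc, hd, h | h⟩ := h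
  · obtain ⟨rfl, rfl⟩ := Prod.ext_iff.1 (pairHom_injective h)
    exact ⟨hc, hd⟩
  · exact absurd (congrArg Subtype.val h) (pairMat_ne_mul_sX one_ne_zero a.2)

theorem isPGroup_shat : IsPGroup 2 (shat P) := by
  obtain ⟨n, hn⟩ := P.2.exists_card_eq
  have hpow : ∀ a b : SL(2, F), a ∈ (P : Subgroup SL(2, F)) → b ∈ (P : Subgroup SL(2, F)) →
      (pairHom (a, b) : Sp4) ^ 2 ^ n = 1 := by
    intro a b ha hb
    have e : ∀ x : SL(2, F), x ∈ (P : Subgroup SL(2, F)) → x ^ 2 ^ n = 1 := fun x hx =>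
      congrArg Subtype.val (hn ▸ pow_card_eq_one' : (⟨x, hx⟩ : (P : Subgroup SL(2, F))) ^ 2 ^ n = 1)
    rw [← map_pow, Prod.pow_mk, e a ha, e b hb, Prod.mk_one_one, map_one]
  rintro ⟨g, a, b, ha, hb, rfl | rfl⟩
  · exact ⟨n, Subtype.ext (hpow a b ha hb)⟩
  · refine ⟨n + 1, Subtype.ext ?_⟩
    show (pairHom (a, b) * sX) ^ 2 ^ (n + 1) = 1
    rw [pow_succ', pow_mul, pow_two, mul_assoc, ← mul_assoc sX, sX_pair,
      mul_assoc (pairHom (b, a)), sX_mul_self, mul_one, ← map_mul, Prod.mk_mul_mk]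
    exact hpow _ _ (mul_mem ha hb) (mul_mem hb ha)

theorem two_mul_sq_dvd_shat : 2 * (Nat.card (P : Subgroup SL(2, F))) ^ 2 ∣ Nat.card (shat P) := by
  set N := (((P : Subgroup SL(2, F))).prod (P : Subgroup SL(2, F))).map (pairHom (F := F)) with hN
  have hcard : Nat.card N = (Nat.card (P : Subgroup SL(2, F))) ^ 2 := by
    rw [hN, Subgroup.card_map_of_injective pairHom_injective,
      Nat.card_congr (Subgroup.prodEquiv _ _).toEquiv, Nat.card_prod, pow_two]
  have hle : N ≤ shat P := by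
    rintro _ ⟨⟨a, b⟩, hab, rfl⟩
    exact pair_mem_shat P hab.1 hab.2
  have hne : (sX : Sp4) ∉ N := by
    rintro ⟨⟨a, b⟩, -, h⟩
    refine pairMat_ne_mul_sX one_ne_zero (C := 1) (D := 1) a.2 (B := (b : M2)) ?_
    rw [pairMat_self, kron_one, one_mul]
    exact congrArg Subtype.val h
  have hlt : Nat.card N < Nat.card (shat P) := Saturation.card_lt_card
    (lt_of_le_of_ne hle fun h => hne (h ▸ sX_mem_shat P))
  obtain ⟨n, hn⟩ := P.2.exists_card_eq
  obtain ⟨r, hr⟩ := (isPGroup_shat P).exists_card_eq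
  rw [hcard, hr, hn, ← pow_mul] at hlt
  rw [hr, hn, ← pow_mul, ← pow_succ']
  exact Nat.pow_dvd_pow 2 (Nat.pow_lt_pow_iff_right one_lt_two |>.1 hlt)

include P in
theorem odd_index_shat (hodd : Odd (Fintype.card F)) : Odd (shat P).index := by
  set q := Fintype.card F with hq
  have hsp : Nat.card Sp4 = q ^ 4 * ((q ^ 2 - 1) * (q ^ 4 - 1)) := by
    rw [Classical.Symplectic.natCard_sp, Finset.prod_range_succ, Finset.prod_range_succ,
      Finset.prod_range_zero, one_mul, ← hq]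
    norm_num
  have hsl : Nat.card SL(2, F) = q * (q ^ 2 - 1) := by
    rw [Classical.GL2.natCard_SL_two, ← hq]
    congr 1
    rw [mul_comm, ← Nat.sq_sub_sq, one_pow]
  have h4 : q ^ 4 - 1 = (q ^ 2 - 1) * (q ^ 2 + 1) := by
    rw [mul_comm, ← Nat.sq_sub_sq, ← pow_mul, one_pow]
  set c := Nat.card (P : Subgroup SL(2, F))
  have hm : c * (P : Subgroup SL(2, F)).index = q * (q ^ 2 - 1) := by
    rw [Subgroup.card_mul_index, hsl]
  have hmodd : Odd (P : Subgroup SL(2, F)).index := by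
    rw [← Nat.not_even_iff_odd, even_iff_two_dvd]
    exact P.not_dvd_index
  obtain ⟨t, ht⟩ := two_mul_sq_dvd_shat P
  obtain ⟨j, hj⟩ := hodd
  have h2 : q ^ 2 + 1 = 2 * (2 * (j * j + j) + 1) := by rw [hj]; ring
  have key : 2 * c ^ 2 * (t * (shat P).index) =
      2 * c ^ 2 * ((P : Subgroup SL(2, F)).index ^ 2 * q ^ 2 * (2 * (j * j + j) + 1)) := by
    rw [← mul_assoc, ← ht, Subgroup.card_mul_index, hsp, h4, h2,
      show q ^ 4 * ((q ^ 2 - 1) * ((q ^ 2 - 1) * (2 * (2 * (j * j + j) + 1)))) =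
        (q * (q ^ 2 - 1)) ^ 2 * (2 * q ^ 2 * (2 * (j * j + j) + 1)) by ring, ← hm]
    ring
  have := Nat.eq_of_mul_eq_mul_left (mul_pos two_pos (pow_pos Nat.card_pos 2)) key
  refine Nat.Odd.of_mul_right (m := t) ?_
  rw [this]
  exact ((hmodd.pow).mul (Odd.pow ⟨j, hj⟩)).mul (odd_two_mul_add_one _)

/-- In a central quotient by `±1`, the Sylow 2-subgroups are images of conjugates of `shat`. -/
theorem exists_map_eq (hodd : Odd (Fintype.card F)) {G : Type*} [Group G] [Finite G] (φ : Sp4 →* G)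
    (hφ : Function.Surjective φ) (S : Sylow 2 G) :
    ∃ g : G, (S : Subgroup G) = (shat P).map ((MulAut.conj g).toMonoidHom.comp φ) := by
  have hS : ¬ 2 ∣ ((shat P).map φ).index := fun h => by
    have := odd_index_shat P hodd
    rw [← Nat.not_even_iff_odd, even_iff_two_dvd] at this
    exact this (h.trans (Subgroup.index_map_dvd _ hφ))
  let S0 : Sylow 2 G := ((isPGroup_shat P).map φ).toSylow hS
  obtain ⟨g, hg⟩ := MulAction.exists_smul_eq G S0 S
  refine ⟨g, ?_⟩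
  rw [← hg, ← Subgroup.map_map, Sylow.coe_subgroup_smul]
  rfl

end Cfsg.Agent.Fusion.SimpleSpFour
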