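/-
The subgroup `Q₈ ∘ D₈` of `Sp₄(q)` and the elements of its normalizer.
-/
import Mathlib
import Cfsg.Agent.Lib.Fusion.SimpleSpFour.Shat

set_option autoImplicit false
set_option linter.unusedSectionVars false

namespace Cfsg.Agent.Fusion.SimpleSpFour

open Matrix
open scoped MatrixGroups

variable {F : Type*} [Field F] [Fintype F]

local notation "M2" => Matrix (Fin 2) (Fin 2) F
local notation "M4" => Matrix (Fin 2 ⊕ Fin 2) (Fin 2 ⊕ Fin 2) F
local notation "Sp4" => Matrix.symplecticGroup (Fin 2) F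

section Quotient

/-- The kernel consists of the scalars `±1`. -/
def KerPM {G : Type*} [Group G] (φ : Sp4 →* G) : Prop := ∀ A : Sp4, φ A = 1 ↔ PM (A : M4) 1

theorem map_eq_iff {G : Type*} [Group G] {φ : Sp4 →* G} (hker : KerPM φ) (A B : Sp4) : φ A = φ B ↔ PM (A : M4) (B : M4) := by
  rw [← inv_mul_eq_one, ← map_inv, ← map_mul, hker]
  constructor
  · intro h
    have h' := h.mul_left (A : M4)
    rw [← Submonoid.coe_mul, mul_inv_cancel_left, mul_one] at h'
    exact h'.symm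
  · intro h
    have h' := h.symm.mul_left ((A⁻¹ : Sp4) : M4)
    rw [← Submonoid.coe_mul, ← Submonoid.coe_mul, inv_mul_cancel] at h'
    exact h'

theorem map_comm_iff {G : Type*} [Group G] {φ : Sp4 →* G} (hker : KerPM φ) (A B : Sp4) :
    φ A * φ B = φ B * φ A ↔ PM ((A : M4) * (B : M4)) ((B : M4) * (A : M4)) := by
  rw [← map_mul, ← map_mul, map_eq_iff hker, Submonoid.coe_mul, Submonoid.coe_mul]

end Quotient

variable (P : Sylow 2 SL(2, F))

/-- Generators of `Q₈ ∘ D₈`. -/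
def egen : Set Sp4 :=
  {g | (∃ u, Quat (P : Subgroup SL(2, F)) u ∧ g = pairHom (u, u)) ∨ g = sX ∨ g = sZ}

/-- The subgroup `Q₈ ∘ D₈`. -/
def esub : Subgroup Sp4 := Subgroup.closure (egen P)

theorem diag_mem_esub {u : SL(2, F)} (hu : Quat (P : Subgroup SL(2, F)) u) :
    pairHom (u, u) ∈ esub P := Subgroup.subset_closure (Or.inl ⟨u, hu, rfl⟩)

theorem sX_mem_esub : (sX : Sp4) ∈ esub P := Subgroup.subset_closure (Or.inr (Or.inl rfl))

theorem sZ_mem_esub : (sZ : Sp4) ∈ esub P := Subgroup.subset_closure (Or.inr (Or.inr rfl))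

theorem sZ_coe_pair : ((sZ : Sp4) : M4) = pairMat 1 (-1) := (pairMat_one_neg_one 1).symm

theorem sX_sZ : ((sX : Sp4) : M4) * ((sZ : Sp4) : M4) = -(((sZ : Sp4) : M4) * ((sX : Sp4) : M4)) := by
  show kron 1 Xm * kron 1 Zm = -(kron 1 Zm * kron 1 Xm)
  rw [kron_mul, kron_mul, (X_facts (F := F)).2.2.1, kron_neg_right, neg_neg]

theorem pair_sZ (A B : M2) :
    pairMat A B * ((sZ : Sp4) : M4) = ((sZ : Sp4) : M4) * pairMat A B := by
  rw [sZ_coe_pair, pairMat_mul, pairMat_mul, mul_one, one_mul, mul_neg_one, neg_one_mul]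

variable (hodd : Odd (Fintype.card F))
include hodd

theorem sZ_mem_shat : (sZ : Sp4) ∈ shat P := by
  obtain ⟨i, -, hi, -, -⟩ := exists_pair hodd P
  rw [show (sZ : Sp4) = pairHom (1, i * i) from Subtype.ext (by
    rw [sZ_coe_pair, pairHom_coe, Matrix.SpecialLinearGroup.coe_mul, hi.2,
      Matrix.SpecialLinearGroup.coe_one])]
  exact pair_mem_shat P (one_mem _) (mul_mem hi.1 hi.1)

theorem esub_le_shat : esub P ≤ shat P := by
  refine (Subgroup.closure_le _).2 ?_
  rintro g (⟨u, hu, rfl⟩ | rfl | rfl)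
  · exact pair_mem_shat P hu.1 hu.1
  · exact sX_mem_shat P
  · exact sZ_mem_shat P hodd

theorem esub_pm {A B : Sp4} (hB : B ∈ esub P) (h : PM (A : M4) (B : M4)) : A ∈ esub P := by
  obtain ⟨i, -, hi, -, -⟩ := exists_pair hodd P
  rcases h with h | h
  · rwa [show A = B from Subtype.ext h]
  · rw [show A = B * (pairHom (i, i) * pairHom (i, i)) from Subtype.ext (by
      simp only [Submonoid.coe_mul, pairHom_coe, pairMat_mul, hi.2, pairMat_neg]
      rw [pairMat_self, kron_one, mul_neg, mul_one]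
      exact h)]
    exact mul_mem hB (mul_mem (diag_mem_esub P hi) (diag_mem_esub P hi))

theorem diag_mem_esub_of_mem {u : SL(2, F)} (hu : u ∈ (P : Subgroup SL(2, F))) :
    pairHom (u, u) ∈ esub P := by
  rw [closure_quat hodd P] at hu
  induction hu using Subgroup.closure_induction with
  | mem x hx => exact diag_mem_esub P hx
  | one => rw [Prod.mk_one_one, map_one]; exact one_mem _
  | mul a b _ _ ha hb =>
    rw [← Prod.mk_mul_mk, map_mul]
    exact mul_mem ha hb
  | inv a _ ha =>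
    rw [← Prod.inv_mk, map_inv]
    exact inv_mem ha

theorem pair_mem_esub_of_pm {w w' : SL(2, F)} (hw : w ∈ (P : Subgroup SL(2, F)))
    (h : PM (w' : M2) (w : M2)) : pairHom (w, w') ∈ esub P := by
  rcases h with h | h
  · rw [show w' = w from Subtype.ext h]
    exact diag_mem_esub_of_mem P hodd hw
  · rw [show pairHom (w, w') = pairHom (w, w) * sZ from Subtype.ext (by
      rw [Submonoid.coe_mul, sZ_coe_pair, pairHom_coe, pairHom_coe, pairMat_mul, mul_one,
        mul_neg_one, h])]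
    exact mul_mem (diag_mem_esub_of_mem P hodd hw) (sZ_mem_esub P)

omit hodd in
theorem mem_normalizer_esub {g : Sp4} (h : ∀ x ∈ egen P, g * x * g⁻¹ ∈ esub P) :
    g ∈ Subgroup.normalizer (esub P : Set Sp4) := by
  refine Saturation.mem_normalizer_of_forall fun x hx => ?_
  induction hx using Subgroup.closure_induction with
  | mem x hx => exact h x hx
  | one => simp
  | mul a b _ _ ha hb => simpa [mul_assoc] using mul_mem ha hb
  | inv a _ ha => simpa [mul_assoc] using inv_mem ha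

theorem shat_le_normalizer (h8 : IsEight P) :
    shat P ≤ Subgroup.normalizer (esub P : Set Sp4) := by
  have hX : (sX : Sp4) ∈ Subgroup.normalizer (esub P : Set Sp4) := by
    refine mem_normalizer_esub P fun x hx => ?_
    exact mul_mem (mul_mem (sX_mem_esub P) (Subgroup.subset_closure hx)) (inv_mem (sX_mem_esub P))
  rintro g ⟨a, b, ha, hb, hg⟩
  suffices hp : pairHom (a, b) ∈ Subgroup.normalizer (esub P : Set Sp4) by
    rcases hg with rfl | rfl
    · exact hp
    · exact mul_mem hp hX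
  refine mem_normalizer_esub P fun x hx => ?_
  rcases hx with ⟨u, hu, rfl⟩ | rfl | rfl
  · rw [← map_inv, ← map_mul, ← map_mul, Prod.inv_mk, Prod.mk_mul_mk, Prod.mk_mul_mk]
    refine pair_mem_esub_of_pm P hodd (mul_mem (mul_mem ha hu.1) (inv_mem ha)) ?_
    have key : ∀ c ∈ (P : Subgroup SL(2, F)), PM ((c * u * c⁻¹ : SL(2, F)) : M2) (u : M2) := by
      intro c hc
      have h := (comm_of_eight hodd P h8 hc hu.1).mul_right ((c⁻¹ : SL(2, F)) : M2)
      simp only [← Matrix.SpecialLinearGroup.coe_mul, mul_inv_cancel_right] at h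
      exact h
    exact (key b hb).trans (key a ha).symm
  · rw [show pairHom (a, b) * sX * (pairHom (a, b))⁻¹ = pairHom (a * b⁻¹, b * a⁻¹) * sX by
      rw [mul_assoc, ← map_inv, Prod.inv_mk, sX_pair, ← mul_assoc, ← map_mul, Prod.mk_mul_mk]]
    refine mul_mem (pair_mem_esub_of_pm P hodd (mul_mem ha (inv_mem hb)) ?_) (sX_mem_esub P)
    rw [show b * a⁻¹ = (a * b⁻¹)⁻¹ by group]
    exact inv_of_eight hodd P h8 (mul_mem ha (inv_mem hb))
  · rw [show pairHom (a, b) * sZ * (pairHom (a, b))⁻¹ = sZ from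
      mul_inv_eq_iff_eq_mul.2 (Subtype.ext (pair_sZ _ _))]
    exact sZ_mem_esub P

omit hodd in
/-- A matrix can be made to commute with `g` by a factor anticommuting with it. -/
theorem fix_step {A s g : M4} (hA : PM (A * g) (g * A)) (hs : s * g = -(g * s)) :
    A * g = g * A ∨ A * s * g = g * (A * s) := by
  rcases hA with h | h
  · exact Or.inl h
  · right
    rw [mul_assoc, hs, mul_neg, ← mul_assoc, h, neg_mul, neg_neg, mul_assoc]

omit hodd in
theorem comm_step {A s g : M4} (hA : A * g = g * A) (hs : s * g = g * s) :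
    A * s * g = g * (A * s) := by
  rw [mul_assoc, hs, ← mul_assoc, hA, mul_assoc]

theorem mem_esub_of_comm {A : Sp4}
    (hall : ∀ g ∈ egen P, PM ((A : M4) * (g : M4)) ((g : M4) * (A : M4))) : A ∈ esub P := by
  have h2 := Classical.SylowSL2.two_ne_zero_of_odd hodd
  obtain ⟨i, j, hi, hj, hij⟩ := exists_pair hodd P
  have gi : (pairHom (i, i) : Sp4) ∈ egen P := Or.inl ⟨i, hi, rfl⟩
  have gj : (pairHom (j, j) : Sp4) ∈ egen P := Or.inl ⟨j, hj, rfl⟩
  have gX : (sX : Sp4) ∈ egen P := Or.inr (Or.inl rfl)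
  have gZ : (sZ : Sp4) ∈ egen P := Or.inr (Or.inr rfl)
  have hgg : ∀ a ∈ egen P, a = pairHom (i, i) ∨ a = pairHom (j, j) ∨ a = sX ∨ a = sZ →
      ∀ b, b = pairHom (i, i) ∨ b = pairHom (j, j) ∨ b = sX ∨ b = sZ →
      PM ((a : M4) * (b : M4)) ((b : M4) * (a : M4)) := by
    have h1 : ∀ u : SL(2, F), (pairHom (u, u) : Sp4).1 * ((sX : Sp4) : M4) =
        ((sX : Sp4) : M4) * (pairHom (u, u) : Sp4).1 := fun u =>
      congrArg Subtype.val (sX_pair u u).symm
    have h3 : ((pairHom (i, i) : Sp4) : M4) * ((pairHom (j, j) : Sp4) : M4) =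
        -(((pairHom (j, j) : Sp4) : M4) * ((pairHom (i, i) : Sp4) : M4)) := by
      rw [pairHom_coe, pairHom_coe, pairMat_mul, pairMat_mul, hij, pairMat_neg]
    intro a _ ha b hb
    rcases ha with rfl | rfl | rfl | rfl <;> rcases hb with rfl | rfl | rfl | rfl
    · exact PM.refl _
    · exact Or.inr h3
    · exact Or.inl (h1 i)
    · exact Or.inl (pair_sZ _ _)
    · exact Or.inr (by rw [h3, neg_neg])
    · exact PM.refl _
    · exact Or.inl (h1 j)
    · exact Or.inl (pair_sZ _ _)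
    · exact Or.inl (h1 i).symm
    · exact Or.inl (h1 j).symm
    · exact PM.refl _
    · exact Or.inr sX_sZ
    · exact Or.inl (pair_sZ _ _).symm
    · exact Or.inl (pair_sZ _ _).symm
    · exact Or.inr (by rw [sX_sZ, neg_neg])
    · exact PM.refl _
  have hXi : ((sX : Sp4) : M4) * ((pairHom (i, i) : Sp4) : M4) =
      ((pairHom (i, i) : Sp4) : M4) * ((sX : Sp4) : M4) := congrArg Subtype.val (sX_pair i i)
  have hXj : ((sX : Sp4) : M4) * ((pairHom (j, j) : Sp4) : M4) =
      ((pairHom (j, j) : Sp4) : M4) * ((sX : Sp4) : M4) := congrArg Subtype.val (sX_pair j j)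
  -- commute with `sZ`
  obtain ⟨A₁, hA₁, h1, k1⟩ : ∃ A₁ : Sp4, (A₁ ∈ esub P → A ∈ esub P) ∧
      (A₁ : M4) * ((sZ : Sp4) : M4) = ((sZ : Sp4) : M4) * (A₁ : M4) ∧
      ∀ g, g = pairHom (i, i) ∨ g = pairHom (j, j) ∨ g = sX ∨ g = sZ →
        PM ((A₁ : M4) * (g : M4)) ((g : M4) * (A₁ : M4)) := by
    have hb : ∀ g, g = pairHom (i, i) ∨ g = pairHom (j, j) ∨ g = sX ∨ g = sZ →
        PM ((A : M4) * (g : M4)) ((g : M4) * (A : M4)) := by
      rintro g (rfl | rfl | rfl | rfl)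
      exacts [hall _ gi, hall _ gj, hall _ gX, hall _ gZ]
    rcases fix_step (hall _ gZ) sX_sZ with h | h
    · exact ⟨A, id, h, hb⟩
    · exact ⟨A * sX, fun hm => (Subgroup.mul_mem_cancel_right _ (sX_mem_esub P)).1 hm, h, fun g hg =>
        PM.comm_mul (hb g hg) (hgg _ gX (Or.inr (Or.inr (Or.inl rfl))) g hg)⟩
  -- commute with `sX`
  obtain ⟨A₂, hA₂, h1, h2', k2⟩ : ∃ A₂ : Sp4, (A₂ ∈ esub P → A ∈ esub P) ∧
      (A₂ : M4) * ((sZ : Sp4) : M4) = ((sZ : Sp4) : M4) * (A₂ : M4) ∧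
      (A₂ : M4) * ((sX : Sp4) : M4) = ((sX : Sp4) : M4) * (A₂ : M4) ∧
      ∀ g, g = pairHom (i, i) ∨ g = pairHom (j, j) ∨ g = sX ∨ g = sZ →
        PM ((A₂ : M4) * (g : M4)) ((g : M4) * (A₂ : M4)) := by
    rcases fix_step (k1 _ (Or.inr (Or.inr (Or.inl rfl))))
      (show ((sZ : Sp4) : M4) * ((sX : Sp4) : M4) = -(((sX : Sp4) : M4) * ((sZ : Sp4) : M4)) by
        rw [sX_sZ, neg_neg]) with h | h
    · exact ⟨A₁, hA₁, h1, h, k1⟩
    · exact ⟨A₁ * sZ, fun hm => hA₁ ((Subgroup.mul_mem_cancel_right _ (sZ_mem_esub P)).1 hm),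
        comm_step h1 rfl, h, fun g hg =>
        PM.comm_mul (k1 g hg) (hgg _ gZ (Or.inr (Or.inr (Or.inr rfl))) g hg)⟩
  -- commute with `(i, i)`
  obtain ⟨A₃, hA₃, h1, h2', h3, k3⟩ : ∃ A₃ : Sp4, (A₃ ∈ esub P → A ∈ esub P) ∧
      (A₃ : M4) * ((sZ : Sp4) : M4) = ((sZ : Sp4) : M4) * (A₃ : M4) ∧
      (A₃ : M4) * ((sX : Sp4) : M4) = ((sX : Sp4) : M4) * (A₃ : M4) ∧
      (A₃ : M4) * ((pairHom (i, i) : Sp4) : M4) = ((pairHom (i, i) : Sp4) : M4) * (A₃ : M4) ∧
      PM ((A₃ : M4) * ((pairHom (j, j) : Sp4) : M4)) (((pairHom (j, j) : Sp4) : M4) * (A₃ : M4)) := by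
    rcases fix_step (k2 _ (Or.inl rfl))
      (show ((pairHom (j, j) : Sp4) : M4) * ((pairHom (i, i) : Sp4) : M4) =
          -(((pairHom (i, i) : Sp4) : M4) * ((pairHom (j, j) : Sp4) : M4)) by
        rw [pairHom_coe, pairHom_coe, pairMat_mul, pairMat_mul, hij, pairMat_neg, neg_neg]) with h | h
    · exact ⟨A₂, hA₂, h1, h2', h, k2 _ (Or.inr (Or.inl rfl))⟩
    · exact ⟨A₂ * pairHom (j, j),
        fun hm => hA₂ ((Subgroup.mul_mem_cancel_right _ (diag_mem_esub P hj)).1 hm),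
        comm_step h1 (pair_sZ _ _), comm_step h2' hXj.symm, h,
        PM.comm_mul (k2 _ (Or.inr (Or.inl rfl))) (PM.refl _)⟩
  -- commute with `(j, j)`
  obtain ⟨A₄, hA₄, h1, h2', h3, h4⟩ : ∃ A₄ : Sp4, (A₄ ∈ esub P → A ∈ esub P) ∧
      (A₄ : M4) * ((sZ : Sp4) : M4) = ((sZ : Sp4) : M4) * (A₄ : M4) ∧
      (A₄ : M4) * ((sX : Sp4) : M4) = ((sX : Sp4) : M4) * (A₄ : M4) ∧
      (A₄ : M4) * ((pairHom (i, i) : Sp4) : M4) = ((pairHom (i, i) : Sp4) : M4) * (A₄ : M4) ∧
      (A₄ : M4) * ((pairHom (j, j) : Sp4) : M4) = ((pairHom (j, j) : Sp4) : M4) * (A₄ : M4) := by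
    rcases fix_step k3
      (show ((pairHom (i, i) : Sp4) : M4) * ((pairHom (j, j) : Sp4) : M4) =
          -(((pairHom (j, j) : Sp4) : M4) * ((pairHom (i, i) : Sp4) : M4)) by
        rw [pairHom_coe, pairHom_coe, pairMat_mul, pairMat_mul, hij, pairMat_neg]) with h | h
    · exact ⟨A₃, hA₃, h1, h2', h3, h⟩
    · exact ⟨A₃ * pairHom (i, i),
        fun hm => hA₃ ((Subgroup.mul_mem_cancel_right _ (diag_mem_esub P hi)).1 hm),
        comm_step h1 (pair_sZ _ _), comm_step h2' hXi.symm, comm_step h3 rfl, h⟩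
  obtain ⟨a, b, hab⟩ := exists_pair_of_commute h2 h1
  rw [hab] at h2' h3 h4
  have hX' : pairMat a b * kron 1 Xm = pairMat b a * kron 1 Xm := by
    rw [show pairMat a b * kron 1 Xm = kron 1 Xm * pairMat a b from h2']
    rw [pairMat, pairMat, mul_add, add_mul, kron_mul, kron_mul, kron_mul, kron_mul,
      (X_facts (F := F)).2.2.2.1, (X_facts (F := F)).2.2.2.2.1, one_mul, one_mul, mul_one, mul_one,
      add_comm]
  obtain ⟨rfl, -⟩ := pairMat_mul_sX_inj hX'
  rw [pairHom_coe, pairMat_mul, pairMat_mul] at h3 h4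
  obtain ⟨c, rfl⟩ := scalar_of_commute h2 hi.2 hj.2 hij (pairMat_inj h3).1 (pairMat_inj h4).1
  refine hA₄ (esub_pm P hodd (one_mem _) ?_)
  have hdet := ((pairMat_mem_iff (c • 1 : M2) (c • 1)).1 (hab ▸ A₄.2)).1
  rw [det_smul, det_one, mul_one, Fintype.card_fin, pow_two, mul_self_eq_one_iff] at hdet
  rw [hab, pairMat_self, kron_smul_left, kron_one]
  rcases hdet with rfl | rfl
  · exact Or.inl (one_smul F _)
  · exact Or.inr (by rw [neg_smul, one_smul]; rfl)

/-- The element `((1 + u)/2) ⊗ H`. -/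
def wel (u : SL(2, F)) (hu : (u : M2) * (u : M2) = -1) : Sp4 :=
  ⟨kron ((2 : F)⁻¹ • (1 + (u : M2))) Hm, kron_mem _ _ (by
    have h2 := Classical.SylowSL2.two_ne_zero_of_odd hodd
    have h1 : (1 + (u : M2)) * (1 + (u : M2)) = (2 : F) • (u : M2) := by
      simp only [add_mul, mul_add, one_mul, mul_one, hu, two_smul]; abel
    have hd := congrArg Matrix.det h1
    rw [det_mul, det_smul, u.2, Fintype.card_fin] at hd
    have ht : (1 + (u : M2)).det = 2 := by
      have h00 := congrFun (congrFun hu 0) 0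
      have hu2 := u.2
      rw [det_fin_two] at hu2
      simp [Matrix.mul_apply, Fin.sum_univ_two] at h00
      have h01 := congrFun (congrFun hu 0) 1
      simp [Matrix.mul_apply, Fin.sum_univ_two] at h01
      have h11 := congrFun (congrFun hu 1) 1
      simp [Matrix.mul_apply, Fin.sum_univ_two] at h11
      rw [det_fin_two]
      simp only [Matrix.add_apply, Matrix.one_apply_eq, Matrix.one_apply_ne (show (0 : Fin 2) ≠ 1 by decide),
        Matrix.one_apply_ne (show (1 : Fin 2) ≠ 0 by decide), zero_add]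
      have ht0 : (u : M2) 0 0 + (u : M2) 1 1 = 0 := by
        by_contra ht
        have hb : (u : M2) 0 1 = 0 := (mul_eq_zero.1
          (by linear_combination h01 : (u : M2) 0 1 * ((u : M2) 0 0 + (u : M2) 1 1) = 0)).resolve_right ht
        rw [hb] at h00 h11 hu2
        exact ht ((mul_eq_zero.1 (by linear_combination h00 + h11 + 2 * hu2 :
          ((u : M2) 0 0 + (u : M2) 1 1) * ((u : M2) 0 0 + (u : M2) 1 1) = 0)).elim id id)
      linear_combination hu2 + ht0
    rw [det_smul, ht, (X_facts (F := F)).2.2.2.2.2.2.2.2.2.1, smul_smul, Fintype.card_fin,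
      show ((2 : F)⁻¹ ^ 2 * 2) * 2 = 1 by field_simp, one_smul])⟩

theorem wel_coe (u : SL(2, F)) (hu : (u : M2) * (u : M2) = -1) :
    ((wel hodd u hu : Sp4) : M4) = kron ((2 : F)⁻¹ • (1 + (u : M2))) Hm := rfl

theorem wel_sq (u : SL(2, F)) (hu : (u : M2) * (u : M2) = -1) :
    wel hodd u hu * wel hodd u hu = pairHom (u, u) := by
  have h2 := Classical.SylowSL2.two_ne_zero_of_odd hodd
  have h1 : (1 + (u : M2)) * (1 + (u : M2)) = (2 : F) • (u : M2) := by
    simp only [add_mul, mul_add, one_mul, mul_one, hu, two_smul]; abel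
  refine Subtype.ext ?_
  rw [Submonoid.coe_mul, wel_coe, pairHom_coe, pairMat_self, kron_mul,
    (X_facts (F := F)).2.2.2.2.2.2.2.2.2.2.2, smul_mul_assoc, mul_smul_comm, h1, smul_smul, smul_smul,
    kron_smul_right, kron_smul_left, smul_smul,
    show (2 : F) * ((2 : F)⁻¹ * 2⁻¹ * 2) = 1 by field_simp, one_smul]

theorem wel_pow_eight (u : SL(2, F)) (hu : (u : M2) * (u : M2) = -1) :
    wel hodd u hu ^ 8 = 1 := by
  rw [show 8 = 2 * 4 by norm_num, pow_mul, pow_two, wel_sq, ← map_pow, Prod.pow_mk,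
    show u ^ 4 = 1 from Subtype.ext (by
      rw [show 4 = 2 * 2 by norm_num, pow_mul, pow_two, pow_two, Matrix.SpecialLinearGroup.coe_mul,
        Matrix.SpecialLinearGroup.coe_mul, hu, neg_mul_neg, one_mul,
        Matrix.SpecialLinearGroup.coe_one]), Prod.mk_one_one, map_one]

theorem wel_mem_normalizer (h8 : IsEight P) {u : SL(2, F)} (hu : Quat (P : Subgroup SL(2, F)) u) :
    wel hodd u hu.2 ∈ Subgroup.normalizer (esub P : Set Sp4) := by
  refine mem_normalizer_esub P fun x hx => ?_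
  suffices h : ∃ y ∈ esub P, wel hodd u hu.2 * x = y * wel hodd u hu.2 by
    obtain ⟨y, hy, he⟩ := h
    rw [mul_inv_eq_iff_eq_mul.2 he]
    exact hy
  rcases hx with ⟨v, hv, rfl⟩ | rfl | rfl
  · rcases h8 u v hu hv with h | h
    · refine ⟨pairHom (v, v), diag_mem_esub P hv, Subtype.ext ?_⟩
      rw [Submonoid.coe_mul, Submonoid.coe_mul, wel_coe, pairHom_coe, pairMat_self, kron_mul, kron_mul,
        mul_one, one_mul, smul_mul_assoc, mul_smul_comm, add_mul, mul_add, one_mul, mul_one, h]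
    · refine ⟨pairHom (u * v, u * v), diag_mem_esub_of_mem P hodd (mul_mem hu.1 hv.1), Subtype.ext ?_⟩
      rw [Submonoid.coe_mul, Submonoid.coe_mul, wel_coe, pairHom_coe, pairHom_coe, pairMat_self,
        pairMat_self, kron_mul, kron_mul, mul_one, one_mul, smul_mul_assoc, mul_smul_comm, add_mul,
        mul_add, one_mul, mul_one, Matrix.SpecialLinearGroup.coe_mul]
      congr 2
      rw [show (u : M2) * (v : M2) * (u : M2) = -((v : M2) * (u : M2) * (u : M2)) by rw [h, neg_mul],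
        mul_assoc (v : M2), hu.2, mul_neg, mul_one, neg_neg, add_comm]
  · refine ⟨sZ, sZ_mem_esub P, Subtype.ext ?_⟩
    show kron _ Hm * kron 1 Xm = kron 1 Zm * kron _ Hm
    rw [kron_mul, kron_mul, mul_one, one_mul, (X_facts (F := F)).2.2.2.2.2.2.2.2.1]
  · refine ⟨sX, sX_mem_esub P, Subtype.ext ?_⟩
    show kron _ Hm * kron 1 Zm = kron 1 Xm * kron _ Hm
    rw [kron_mul, kron_mul, mul_one, one_mul, (X_facts (F := F)).2.2.2.2.2.2.2.1]

end Cfsg.Agent.Fusion.SimpleSpFour
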