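/-
The 2-fusion system of `PSp₄(q)`, `q` odd, is simple.
-/
import Mathlib
import Cfsg.Agent.Lib.Fusion.SimpleCriterion
import Cfsg.Agent.Lib.Fusion.SimpleSpFour.Essential

set_option autoImplicit false
set_option linter.unusedSectionVars false
set_option linter.unusedSimpArgs false

namespace Cfsg.Agent.Fusion.SimpleSpFour

open Matrix Cfsg
open scoped MatrixGroups

variable {F : Type*} [Field F] [Fintype F]

local notation "M2" => Matrix (Fin 2) (Fin 2) F
local notation "M4" => Matrix (Fin 2 ⊕ Fin 2) (Fin 2 ⊕ Fin 2) F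
local notation "Sp4" => Matrix.symplecticGroup (Fin 2) F

theorem ne_neg_self (h2 : (2 : F) ≠ 0) {A : SL(2, F)} : (A : M2) ≠ -(A : M2) := by
  intro h
  have h' : (2 : F) • (A : M2) = 0 := by rw [two_smul]; exact eq_neg_iff_add_eq_zero.1 h
  have hd := congrArg Matrix.det h'
  rw [det_smul, A.2, Fintype.card_fin, mul_one, det_fin_two] at hd
  exact h2 (pow_eq_zero_iff (by norm_num) |>.1 (hd.trans (by simp)))

theorem sylow_mem_of_pow {G : Type*} [Group G] [Finite G] (P : Sylow 2 G) {c : G}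
    (hc : c ∈ Subgroup.normalizer ((P : Subgroup G) : Set G)) {k : ℕ} (hk : c ^ 2 ^ k = 1) :
    c ∈ (P : Subgroup G) := by
  have hz : IsPGroup 2 (Subgroup.zpowers c) := by
    rintro ⟨y, hy⟩
    obtain ⟨i, rfl⟩ := Subgroup.mem_zpowers_iff.1 hy
    exact ⟨k, Subtype.ext (by
      show (c ^ i) ^ 2 ^ k = 1
      rw [← zpow_natCast (c ^ i), ← _root_.zpow_mul, mul_comm, _root_.zpow_mul, zpow_natCast, hk, _root_.one_zpow])⟩
  have h := P.3 (hz.to_sup_of_normal_right' P.2 (Subgroup.zpowers_le.2 hc)) le_sup_right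
  exact h.le (Subgroup.mem_sup_left (Subgroup.mem_zpowers c))

/-- An element is the product of commuting powers of 2-order and of odd order. -/
theorem exists_split {G : Type*} [Group G] [Finite G] (b : G) :
    ∃ c d : G, b = c * d ∧ c ∈ Subgroup.zpowers b ∧ (∃ k, c ^ 2 ^ k = 1) ∧ Odd (orderOf d) := by
  obtain ⟨k, m, hm, he⟩ := Nat.exists_eq_two_pow_mul_odd (orderOf_pos b).ne'
  obtain ⟨x, y, hxy⟩ := (Int.isCoprime_iff_nat_coprime.2
    (by simpa using Nat.Coprime.pow_left k hm.coprime_two_left) :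
      IsCoprime ((2 ^ k : ℕ) : ℤ) ((m : ℕ) : ℤ))
  have hb : b ^ (((2 ^ k : ℕ) : ℤ) * m) = 1 := by
    rw [← Nat.cast_mul, zpow_natCast, ← he, pow_orderOf_eq_one]
  refine ⟨b ^ (y * m), b ^ (x * (2 ^ k : ℕ)), ?_, Subgroup.zpow_mem_zpowers b _, ⟨k, ?_⟩, ?_⟩
  · rw [← _root_.zpow_add, add_comm, hxy, zpow_one]
  · rw [← zpow_natCast, ← _root_.zpow_mul, show y * m * ((2 ^ k : ℕ) : ℤ) = ((2 ^ k : ℕ) : ℤ) * m * y by ring,
      _root_.zpow_mul, hb, _root_.one_zpow]
  · refine Odd.of_dvd_nat hm (orderOf_dvd_of_pow_eq_one ?_)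
    rw [← zpow_natCast, ← _root_.zpow_mul, show x * ((2 ^ k : ℕ) : ℤ) * m = ((2 ^ k : ℕ) : ℤ) * m * x by ring,
      _root_.zpow_mul, hb, _root_.one_zpow]

theorem comm_of_pow_two_pow {G : Type*} [Group G] [Finite G] {b i : G} (hb : Odd (orderOf b)) {n : ℕ}
    (h : Commute (b ^ 2 ^ n) i) : Commute b i := by
  obtain ⟨m, hm⟩ := exists_pow_eq_self_of_coprime (n := 2 ^ n) (x := b)
    (Nat.Coprime.pow_left n hb.coprime_two_left)
  rw [← hm]
  exact h.pow_left m

variable (hodd : Odd (Fintype.card F)) (P : Sylow 2 SL(2, F))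
include hodd

/-- The element `(1 + i)(1 + j)/2` conjugates `i` to `j` and `j` to `ij`. -/
theorem quarter_turn {i j : SL(2, F)} (hi : (i : M2) * (i : M2) = -1) (hj : (j : M2) * (j : M2) = -1)
    (hij : (i : M2) * (j : M2) = -((j : M2) * (i : M2))) :
    ∃ c : SL(2, F), c * i = j * c ∧ c * j = i * j * c ∧
      wel hodd i hi * wel hodd j hj = pairHom (c, c) := by
  have h2 := Classical.SylowSL2.two_ne_zero_of_odd hodd
  have hm : kron ((2 : F)⁻¹ • ((1 + (i : M2)) * (1 + (j : M2)))) 1 =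
      ((wel hodd i hi * wel hodd j hj : Sp4) : M4) := by
    rw [Submonoid.coe_mul, wel_coe, wel_coe, kron_mul, (X_facts (F := F)).2.2.2.2.2.2.2.2.2.2.2,
      smul_mul_assoc, mul_smul_comm, smul_smul, kron_smul_right, kron_smul_left, kron_smul_left,
      smul_smul, show (2 : F) * (2⁻¹ * 2⁻¹) = 2⁻¹ by field_simp]
  have hd : ((2 : F)⁻¹ • ((1 + (i : M2)) * (1 + (j : M2)))).det = 1 := by
    refine ((pairMat_mem_iff _ ((2 : F)⁻¹ • ((1 + (i : M2)) * (1 + (j : M2))))).1 ?_).1
    rw [pairMat_self, hm]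
    exact (wel hodd i hi * wel hodd j hj).2
  have e2 : (j : M2) * (i : M2) = -((i : M2) * (j : M2)) := by rw [hij, neg_neg]
  have e1 : (i : M2) * (j : M2) * (i : M2) = (j : M2) := by
    rw [mul_assoc, e2, mul_neg, ← mul_assoc, hi, neg_mul, one_mul, neg_neg]
  have e4 : (i : M2) * (j : M2) * (j : M2) = -(i : M2) := by rw [mul_assoc, hj, mul_neg, mul_one]
  refine ⟨⟨_, hd⟩, Subtype.ext ?_, Subtype.ext ?_, Subtype.ext ?_⟩
  · show (2 : F)⁻¹ • ((1 + (i : M2)) * (1 + (j : M2))) * (i : M2) =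
      (j : M2) * ((2 : F)⁻¹ • ((1 + (i : M2)) * (1 + (j : M2))))
    rw [smul_mul_assoc, mul_smul_comm]
    congr 1
    simp only [add_mul, mul_add, one_mul, mul_one, neg_mul, mul_neg, neg_neg, ← mul_assoc, hi, hj, e1,
      e2, e4]
    abel
  · show (2 : F)⁻¹ • ((1 + (i : M2)) * (1 + (j : M2))) * (j : M2) =
      (i : M2) * (j : M2) * ((2 : F)⁻¹ • ((1 + (i : M2)) * (1 + (j : M2))))
    rw [smul_mul_assoc, mul_smul_comm]
    congr 1
    simp only [add_mul, mul_add, one_mul, mul_one, neg_mul, mul_neg, neg_neg, ← mul_assoc, hi, hj, e1,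
      e2, e4]
    abel
  · rw [← hm]
    exact (pairMat_self _).symm

/-- An element of `N(P)` of odd order moving an element of square `-1`. -/
theorem odd_normalizer {b : SL(2, F)}
    (hb : b ∈ Subgroup.normalizer ((P : Subgroup SL(2, F)) : Set SL(2, F))) (hbo : Odd (orderOf b))
    (hne : b ≠ 1) :
    IsEight P ∧ ∃ i, ∃ j, ∃ c : SL(2, F),
      ∃ (hi : Quat (P : Subgroup SL(2, F)) i) (hj : Quat (P : Subgroup SL(2, F)) j),
      wel hodd i hi.2 * wel hodd j hj.2 = pairHom (c, c) ∧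
      (PM (b : M2) (c : M2) ∨ PM (b : M2) ((c * i : SL(2, F)) : M2)) := by
  have h2 := Classical.SylowSL2.two_ne_zero_of_odd hodd
  obtain ⟨u₀, hu₀, hmove⟩ : ∃ u, Quat (P : Subgroup SL(2, F)) u ∧ b * u * b⁻¹ ≠ u := by
    by_contra hall
    push Not at hall
    obtain ⟨i, j, hi, hj, hij⟩ := exists_pair hodd P
    have hc : ∀ u, Quat (P : Subgroup SL(2, F)) u → (b : M2) * (u : M2) = (u : M2) * (b : M2) := by
      intro u hu
      rw [← Matrix.SpecialLinearGroup.coe_mul, ← Matrix.SpecialLinearGroup.coe_mul,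
        mul_inv_eq_iff_eq_mul.1 (hall u hu)]
    obtain ⟨c, hc⟩ := scalar_of_commute h2 hi.2 hj.2 hij (hc i hi) (hc j hj)
    have hsq : b * b = 1 := Subtype.ext (by
      rw [Matrix.SpecialLinearGroup.coe_mul, Matrix.SpecialLinearGroup.coe_one]
      rcases pm_one_of_smul hc with h | h <;> rw [h] <;> simp)
    exact hne (orderOf_eq_one_iff.1 (Nat.eq_one_of_dvd_coprimes hbo.coprime_two_left
      (orderOf_dvd_of_pow_eq_one (by rw [pow_two, hsq])) dvd_rfl))
  obtain ⟨hanti, hthird⟩ := eight_of_moved hodd P hb hbo hu₀ hmove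
  have h8 : IsEight P := by
    intro u v hu hv
    by_cases h1 : (v : M2) = u
    · rw [h1]; exact PM.refl _
    by_cases h3 : (v : M2) = -(u : M2)
    · rw [h3]; exact Or.inl (by rw [mul_neg, neg_mul])
    · exact Or.inr (hanti u v hu hv h1 h3)
  refine ⟨h8, ?_⟩
  -- no power of two of `b` fixes `u₀`, nor sends it to its inverse
  have hfix : ∀ n : ℕ, b ^ 2 ^ n * u₀ * (b ^ 2 ^ n)⁻¹ ≠ u₀ := fun n h =>
    hmove (mul_inv_eq_iff_eq_mul.2 (comm_of_pow_two_pow hbo (n := n) (mul_inv_eq_iff_eq_mul.1 h)).eq)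
  have hneg : ∀ n : ℕ, ((b ^ 2 ^ n * u₀ * (b ^ 2 ^ n)⁻¹ : SL(2, F)) : M2) ≠ -(u₀ : M2) := by
    intro n h
    refine hfix (n + 1) ?_
    have h' : b ^ 2 ^ n * u₀ * (b ^ 2 ^ n)⁻¹ = u₀⁻¹ :=
      Subtype.ext (h.trans (coe_inv_of_sq hu₀.2).symm)
    rw [pow_succ, pow_mul, pow_two,
      show b ^ 2 ^ n * b ^ 2 ^ n * u₀ * (b ^ 2 ^ n * b ^ 2 ^ n)⁻¹ =
        b ^ 2 ^ n * (b ^ 2 ^ n * u₀ * (b ^ 2 ^ n)⁻¹) * (b ^ 2 ^ n)⁻¹ by group, h', ← conj_inv, h',
      inv_inv]
  obtain ⟨i', hi'⟩ : ∃ x, x = b * u₀ * b⁻¹ := ⟨_, rfl⟩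
  have hi'q : Quat (P : Subgroup SL(2, F)) i' := hi' ▸ quat_conj hb hu₀
  have n1 : (i' : M2) ≠ u₀ := fun h => hmove (hi' ▸ Subtype.ext h)
  have n2 : (i' : M2) ≠ -(u₀ : M2) := by
    have := hneg 0
    rwa [pow_zero, pow_one, ← hi'] at this
  obtain ⟨i'', hi''⟩ : ∃ x, x = b * i' * b⁻¹ := ⟨_, rfl⟩
  have hi''q : Quat (P : Subgroup SL(2, F)) i'' := hi'' ▸ quat_conj hb hi'q
  have n5 : i'' ≠ i' := fun h => hmove (by
    rw [hi'', hi'] at h
    exact mul_left_cancel (mul_right_cancel h))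
  have n6 : (i'' : M2) ≠ -(i' : M2) := fun h => n2 (by
    have h' : i'' = i'⁻¹ := Subtype.ext (h.trans (coe_inv_of_sq hi'q.2).symm)
    rw [hi'', hi', conj_inv] at h'
    rw [← coe_inv_of_sq hu₀.2, hi', mul_left_cancel (mul_right_cancel h')])
  have e : i'' = b ^ 2 ^ 1 * u₀ * (b ^ 2 ^ 1)⁻¹ := by
    rw [hi'', hi', pow_one, pow_two]; group
  have hw := hthird u₀ i' i'' hu₀ hi'q hi''q n1 n2 (fun h => hfix 1 (e ▸ Subtype.ext h))
    (fun h => hneg 1 (e ▸ h)) (fun h => n5 (Subtype.ext h)) n6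
  have hanti' := hanti u₀ i' hu₀ hi'q n1 n2
  obtain ⟨c, hc1, hc2, hc3⟩ := quarter_turn hodd hu₀.2 hi'q.2 hanti'
  refine ⟨u₀, i', c, hu₀, hi'q, hc3, ?_⟩
  have fin : ∀ x : SL(2, F), x * u₀ = i' * x → x * i' = i'' * x → PM (b : M2) (x : M2) := by
    intro x hx1 hx2
    have hy : ∀ {u v : SL(2, F)}, x * u = v * x → b * u * b⁻¹ = v →
        ((x⁻¹ * b : SL(2, F)) : M2) * (u : M2) = (u : M2) * ((x⁻¹ * b : SL(2, F)) : M2) := by
      intro u v hxu hbu
      rw [← Matrix.SpecialLinearGroup.coe_mul, ← Matrix.SpecialLinearGroup.coe_mul]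
      congr 1
      calc x⁻¹ * b * u = x⁻¹ * (b * u * b⁻¹) * b := by group
        _ = x⁻¹ * (x * u * x⁻¹) * b := by rw [hbu, hxu, mul_inv_cancel_right]
        _ = u * (x⁻¹ * b) := by group
    obtain ⟨a, ha⟩ := scalar_of_commute h2 hu₀.2 hi'q.2 hanti' (hy hx1 hi'.symm) (hy hx2 hi''.symm)
    have := (pm_one_of_smul ha).mul_left (x : M2)
    rwa [← Matrix.SpecialLinearGroup.coe_mul, mul_inv_cancel_left, mul_one] at this
  have hflip : u₀ * i' = i'⁻¹ * u₀ := Subtype.ext (by
    rw [Matrix.SpecialLinearGroup.coe_mul, Matrix.SpecialLinearGroup.coe_mul, coe_inv_of_sq hi'q.2,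
      neg_mul, hanti'])
  rcases hw with h | h
  · left
    refine fin c hc1 ?_
    rw [hc2, show i'' = u₀ * i' from Subtype.ext (by rw [h, Matrix.SpecialLinearGroup.coe_mul])]
  · right
    refine fin (c * u₀) ?_ ?_
    · rw [mul_assoc, ← mul_assoc i', ← hc1, mul_assoc]
    · have hii : i'' = i'⁻¹ * u₀⁻¹ := Subtype.ext (by
        rw [h, Matrix.SpecialLinearGroup.coe_mul, coe_inv_of_sq hi'q.2, coe_inv_of_sq hu₀.2,
          neg_mul_neg, hanti', neg_neg])
      have hci : c * i'⁻¹ = (u₀ * i')⁻¹ * c := by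
        rw [mul_inv_eq_iff_eq_mul, mul_assoc, hc2, inv_mul_cancel_left]
      rw [mul_assoc, hflip, ← mul_assoc, hci, hii, _root_.mul_inv_rev, mul_assoc]

section Main

variable {G : Type*} [Group G] [Finite G]

/-- The generators of `P × P` and the swap generate `shat`. -/
theorem shat_le {K : Subgroup Sp4}
    (h1 : ∀ v, Quat (P : Subgroup SL(2, F)) v → pairHom (1, v) ∈ K) (hX : sX ∈ K) :
    shat P ≤ K := by
  have hr : ∀ b ∈ (P : Subgroup SL(2, F)), pairHom (1, b) ∈ K := by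
    intro b hb
    rw [closure_quat hodd P] at hb
    induction hb using Subgroup.closure_induction with
    | mem x hx => exact h1 x hx
    | one => rw [Prod.mk_one_one, map_one]; exact one_mem _
    | mul x y _ _ hx hy => simpa [← map_mul] using mul_mem hx hy
    | inv x _ hx => simpa [← map_inv] using inv_mem hx
  have hl : ∀ a ∈ (P : Subgroup SL(2, F)), pairHom (a, 1) ∈ K := by
    intro a ha
    have := mul_mem (mul_mem hX (hr a ha)) hX
    rwa [sX_pair, mul_assoc, sX_mul_self, mul_one] at this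
  rintro g ⟨a, b, ha, hb, hg⟩
  have hab : pairHom (a, b) ∈ K := by simpa [← map_mul] using mul_mem (hl a ha) (hr b hb)
  rcases hg with rfl | rfl
  · exact hab
  · exact mul_mem hab hX

theorem map_shat_eq {φ : Sp4 →* G} (hker : KerPM φ) {A : Sp4}
    (h : φ A ∈ (shat P).map φ) : A ∈ shat P := by
  obtain ⟨B, hB, he⟩ := h
  obtain ⟨i, -, hi, -, -⟩ := exists_pair hodd P
  rcases (map_eq_iff hker A B).1 he.symm with h | h
  · rwa [show A = B from Subtype.ext h]
  · rw [show A = B * (pairHom (i, i) * pairHom (i, i)) from Subtype.ext (by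
      simp only [Submonoid.coe_mul, pairHom_coe, pairMat_mul, hi.2, pairMat_neg]
      rw [pairMat_self, kron_one, mul_neg, mul_one]
      exact h)]
    exact mul_mem hB (mul_mem (pair_mem_shat P hi.1 hi.1) (pair_mem_shat P hi.1 hi.1))

/-- The centre of a Sylow subgroup is generated by the image of `sZ`. -/
theorem central_eq {φ : Sp4 →* G} (hker : KerPM φ) {z : G} (hz : z ∈ (shat P).map φ)
    (hz1 : z ≠ 1) (hc : ∀ s ∈ (shat P).map φ, s * z = z * s) : z = φ sZ := by
  have h2 := Classical.SylowSL2.two_ne_zero_of_odd hodd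
  obtain ⟨i, j, hi, hj, hij⟩ := exists_pair hodd P
  obtain ⟨t, ⟨a, b, ha, hb, ht⟩, rfl⟩ := hz
  have key : ∀ {g : Sp4}, g ∈ shat P → PM ((g : M4) * (t : M4)) ((t : M4) * (g : M4)) :=
    fun hg => (map_comm_iff hker _ t).1 (hc _ (Subgroup.mem_map_of_mem φ hg))
  rcases ht with rfl | rfl
  · have hl : ∀ u, Quat (P : Subgroup SL(2, F)) u → (a : M2) * (u : M2) = (u : M2) * (a : M2) := by
      intro u hu
      have h := key (pair_mem_shat P hu.1 (one_mem _))
      rw [pairHom_coe, pairHom_coe, pairMat_mul, pairMat_mul] at h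
      simp only [Matrix.SpecialLinearGroup.coe_one, one_mul, mul_one] at h
      rcases h with h | h
      · exact (pairMat_inj h).1.symm
      · rw [← pairMat_neg] at h
        exact absurd (pairMat_inj h).2 (ne_neg_self h2)
    have hr : ∀ u, Quat (P : Subgroup SL(2, F)) u → (b : M2) * (u : M2) = (u : M2) * (b : M2) := by
      intro u hu
      have h := key (pair_mem_shat P (one_mem _) hu.1)
      rw [pairHom_coe, pairHom_coe, pairMat_mul, pairMat_mul] at h
      simp only [Matrix.SpecialLinearGroup.coe_one, one_mul, mul_one] at h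
      rcases h with h | h
      · exact (pairMat_inj h).2.symm
      · rw [← pairMat_neg] at h
        exact absurd (pairMat_inj h).1 (ne_neg_self h2)
    obtain ⟨c, hc'⟩ := scalar_of_commute h2 hi.2 hj.2 hij (hl i hi) (hl j hj)
    obtain ⟨d, hd'⟩ := scalar_of_commute h2 hi.2 hj.2 hij (hr i hi) (hr j hj)
    rw [map_eq_iff hker, pairHom_coe, sZ_coe_pair]
    have hne : ¬ PM (pairMat (a : M2) (b : M2)) 1 := fun h => hz1 ((hker _).2 h)
    rw [← kron_one, ← pairMat_self] at hne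
    rcases pm_one_of_smul hc' with h | h <;> rcases pm_one_of_smul hd' with h' | h' <;>
      rw [h, h'] at hne ⊢
    · exact absurd (PM.refl _) hne
    · exact PM.refl _
    · exact Or.inr (by rw [← pairMat_neg, neg_neg])
    · exact absurd (Or.inr (pairMat_neg _ _)) hne
  · exfalso
    have h := key (pair_mem_shat P hi.1 (one_mem _))
    rw [show ((pairHom (i, 1) : Sp4) : M4) * ((pairHom (a, b) * sX : Sp4) : M4) =
        pairMat ((i : M2) * (a : M2)) (b : M2) * kron 1 Xm by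
      rw [Submonoid.coe_mul, ← mul_assoc, pairHom_coe, pairHom_coe, pairMat_mul,
        Matrix.SpecialLinearGroup.coe_one, one_mul]
      rfl,
      show ((pairHom (a, b) * sX : Sp4) : M4) * ((pairHom (i, 1) : Sp4) : M4) =
        pairMat (a : M2) ((b : M2) * (i : M2)) * kron 1 Xm by
      rw [← Submonoid.coe_mul, mul_assoc, sX_pair, ← mul_assoc, ← map_mul, Prod.mk_mul_mk, mul_one,
        Submonoid.coe_mul, pairHom_coe, Matrix.SpecialLinearGroup.coe_mul]
      rfl] at h
    have hb' : PM (b : M2) ((b : M2) * (i : M2)) := by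
      rcases h with h | h
      · exact Or.inl (pairMat_mul_sX_inj h).2
      · rw [← neg_mul, ← pairMat_neg] at h
        exact Or.inr (pairMat_mul_sX_inj h).2
    have hb2 := hb'.mul_left ((b⁻¹ : SL(2, F)) : M2)
    rw [← mul_assoc, ← Matrix.SpecialLinearGroup.coe_mul, inv_mul_cancel,
      Matrix.SpecialLinearGroup.coe_one, one_mul] at hb2
    have hsq : PM (1 : M2) (-1) := Or.inr (neg_neg 1).symm
    rcases hb2 with h' | h'
    · have h'' := hi.2
      rw [← h', one_mul] at h''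
      exact ne_neg_self h2 (A := 1) (by rw [Matrix.SpecialLinearGroup.coe_one]; exact h'')
    · have hi1 : (i : M2) = -1 := by rw [h', neg_neg]
      have h'' := hi.2
      rw [hi1, neg_mul_neg, one_mul] at h''
      exact ne_neg_self h2 (A := 1) (by rw [Matrix.SpecialLinearGroup.coe_one]; exact h'')

/-- The only nontrivial strongly closed subgroup is the Sylow subgroup. -/
theorem closed_eq {φ : Sp4 →* G} (hker : KerPM φ) (S : Sylow 2 G)
    (hS : (S : Subgroup G) = (shat P).map φ) {T : Subgroup G}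
    (hT : (groupFusionSystem (S : Subgroup G)).StronglyClosed T) (hne : T ≠ ⊥) :
    T = (S : Subgroup G) := by
  have h2 := Classical.SylowSL2.two_ne_zero_of_odd hodd
  obtain ⟨z, hzT, hz1, hzc⟩ := SimpleCriterion.exists_central hT hne
  have hzS := hT.1 hzT
  rw [hS] at hzS hzc
  rw [central_eq hodd P hker hzS hz1 hzc] at hzT
  have mv : ∀ {A : Sp4}, φ A ∈ T → ∀ (g B : Sp4), B ∈ shat P → g * A = B * g → φ B ∈ T := by
    intro A hA g B hB he
    have hgA : φ g * φ A * (φ g)⁻¹ = φ B := by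
      rw [mul_inv_eq_iff_eq_mul, ← map_mul, ← map_mul, he]
    rw [← hgA]
    exact SimpleCriterion.closed hT hA (by rw [hgA, hS]; exact Subgroup.mem_map_of_mem φ hB)
  obtain ⟨d, hd⟩ : ∃ d : M2, d.det = (2 : F)⁻¹ := ⟨!![(2 : F)⁻¹, 0; 0, 1], by simp [det_fin_two]⟩
  let g₀ : Sp4 := ⟨kron d Hm, kron_mem _ _ (by
    rw [hd, (X_facts (F := F)).2.2.2.2.2.2.2.2.2.1, smul_smul, inv_mul_cancel₀ h2, one_smul])⟩
  have hXT : φ sX ∈ T := mv hzT g₀ sX (sX_mem_shat P) (Subtype.ext (by
    show kron d Hm * kron 1 Zm = kron 1 Xm * kron d Hm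
    rw [kron_mul, kron_mul, mul_one, one_mul, (X_facts (F := F)).2.2.2.2.2.2.2.1]))
  have hanti : ∀ u, Quat (P : Subgroup SL(2, F)) u → φ (pairHom (u, u⁻¹)) ∈ T := by
    intro u hu
    have h := mv hXT (pairHom (u, 1)) (pairHom (u, u⁻¹) * sX)
      (mul_mem (pair_mem_shat P hu.1 (inv_mem hu.1)) (sX_mem_shat P)) (by
      rw [mul_assoc, sX_pair, ← mul_assoc, ← map_mul, Prod.mk_mul_mk, mul_one, inv_mul_cancel])
    have := mul_mem h hXT
    rwa [← map_mul, mul_assoc, sX_mul_self, mul_one] at this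
  have hall : ∀ u v, Quat (P : Subgroup SL(2, F)) u → Quat (P : Subgroup SL(2, F)) v →
      φ (pairHom (u, v)) ∈ T := by
    intro u v hu hv
    have hu' : ((u⁻¹ : SL(2, F)) : M2) * ((u⁻¹ : SL(2, F)) : M2) = -1 := by
      rw [coe_inv_of_sq hu.2, neg_mul_neg, hu.2]
    obtain ⟨g, hg⟩ := isConj_iff.1 (isConj_of_sq h2 hu' hv.2)
    refine mv (hanti u hu) (pairHom (1, g)) _ (pair_mem_shat P hu.1 hv.1) ?_
    rw [← map_mul, ← map_mul, Prod.mk_mul_mk, Prod.mk_mul_mk, one_mul, mul_one,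
      mul_inv_eq_iff_eq_mul.1 hg]
  obtain ⟨i, j, hi, hj, hij⟩ := exists_pair hodd P
  have hw : Quat (P : Subgroup SL(2, F)) (i * j⁻¹) := by
    refine ⟨mul_mem hi.1 (inv_mem hj.1), ?_⟩
    rw [Matrix.SpecialLinearGroup.coe_mul, coe_inv_of_sq hj.2, mul_neg, neg_mul_neg]
    calc (i : M2) * (j : M2) * ((i : M2) * (j : M2))
        = (i : M2) * ((j : M2) * (i : M2)) * (j : M2) := by simp only [mul_assoc]
      _ = (i : M2) * (-((i : M2) * (j : M2))) * (j : M2) := by rw [hij, neg_neg]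
      _ = -((i : M2) * (i : M2) * ((j : M2) * (j : M2))) := by
        simp only [mul_neg, neg_mul, mul_assoc]
      _ = -1 := by rw [hi.2, hj.2, neg_mul_neg, one_mul]
  have hone : φ (pairHom (1, i * j⁻¹)) ∈ T := by
    have := mul_mem (hall j i hj hi) (inv_mem (hall j j hj hj))
    rwa [← map_inv, ← map_mul, ← map_inv, ← map_mul, Prod.inv_mk, Prod.mk_mul_mk, mul_inv_cancel]
      at this
  refine le_antisymm hT.1 ?_
  rw [hS, Subgroup.map_le_iff_le_comap]
  refine shat_le hodd P (fun v hv => ?_) hXT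
  obtain ⟨g, hg⟩ := isConj_iff.1 (isConj_of_sq h2 hw.2 hv.2)
  refine mv hone (pairHom (1, g)) _ (pair_mem_shat P (one_mem _) hv.1) ?_
  rw [← map_mul, ← map_mul, Prod.mk_mul_mk, Prod.mk_mul_mk, mul_inv_eq_iff_eq_mul.1 hg]

/-- The normalizer of the Sylow subgroup is generated by it and local elements. -/
theorem normalizer_le {φ : Sp4 →* G} (hker : KerPM φ) (hφ : Function.Surjective φ) (S : Sylow 2 G)
    (hS : (S : Subgroup G) = (shat P).map φ) :
    Subgroup.normalizer ((S : Subgroup G) : Set G) ≤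
      Subgroup.closure ((Subgroup.centralizer ((S : Subgroup G) : Set G) : Set G) ∪
        ((S : Subgroup G) : Set G) ∪ SimpleCriterion.localSet S) := by
  have h2 := Classical.SylowSL2.two_ne_zero_of_odd hodd
  set N := Subgroup.normalizer ((S : Subgroup G) : Set G)
  set K := Subgroup.closure ((Subgroup.centralizer ((S : Subgroup G) : Set G) : Set G) ∪
    ((S : Subgroup G) : Set G) ∪ SimpleCriterion.localSet S)
  have hSK : ∀ {A : Sp4}, A ∈ shat P → φ A ∈ N ∧ φ A ∈ K := by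
    intro A hA
    have : φ A ∈ (S : Subgroup G) := hS ▸ Subgroup.mem_map_of_mem φ hA
    exact ⟨Subgroup.le_normalizer this, Subgroup.subset_closure (Or.inl (Or.inr this))⟩
  have hconj : ∀ {A B : Sp4}, φ A ∈ N → B ∈ shat P → A * B * A⁻¹ ∈ shat P := by
    intro A B hA hB
    refine map_shat_eq hodd P hker ?_
    rw [map_mul, map_mul, map_inv, ← hS]
    exact (Subgroup.mem_normalizer_iff.1 hA _).1 (hS ▸ Subgroup.mem_map_of_mem φ hB)
  have hodd' : ∀ b : SL(2, F), b ∈ Subgroup.normalizer ((P : Subgroup SL(2, F)) : Set SL(2, F)) →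
      Odd (orderOf b) → φ (pairHom (b, b)) ∈ N → φ (pairHom (b, b)) ∈ K := by
    intro b hb hbo hN
    by_cases hb1 : b = 1
    · rw [hb1, Prod.mk_one_one, map_one, map_one]; exact one_mem _
    obtain ⟨h8, i, j, c, hi, hj, hc, hbc⟩ := odd_normalizer hodd P hb hbo hb1
    refine Subgroup.subset_closure (Or.inr ⟨hN, (esub P).map φ, ?_, ?_, ?_, ?_⟩)
    · exact hS ▸ Subgroup.map_mono (esub_le_shat P hodd)
    · rw [hS]
      exact (Subgroup.map_mono (shat_le_normalizer P hodd h8)).trans (Subgroup.le_normalizer_map φ)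
    · intro x hx
      obtain ⟨A, rfl⟩ := hφ x
      refine Subgroup.mem_map_of_mem φ (mem_esub_of_comm P hodd fun g hg => ?_)
      exact (map_comm_iff hker A g).1
        (Subgroup.mem_centralizer_iff.1 hx _
          (Subgroup.mem_map_of_mem φ (Subgroup.subset_closure hg))).symm
    · have hw : ∀ u, ∀ hu : Quat (P : Subgroup SL(2, F)) u, φ (wel hodd u hu.2) ∈
          {x : G | x ∈ Subgroup.normalizer (((esub P).map φ : Subgroup G) : Set G) ∧
            ∃ k : ℕ, orderOf x = 2 ^ k} := by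
        intro u hu
        refine ⟨Subgroup.le_normalizer_map φ (Subgroup.mem_map_of_mem φ (wel_mem_normalizer P hodd h8 hu)),
          ?_⟩
        have h8' : orderOf (φ (wel hodd u hu.2)) ∣ 2 ^ 3 := orderOf_dvd_of_pow_eq_one (by
          rw [← map_pow, show (2 : ℕ) ^ 3 = 8 by norm_num, wel_pow_eight, map_one])
        obtain ⟨k, -, hk⟩ := (Nat.dvd_prime_pow Nat.prime_two).1 h8'
        exact ⟨k, hk⟩
      have hij := mul_mem (Subgroup.subset_closure (hw i hi)) (Subgroup.subset_closure (hw j hj))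
      rw [← map_mul, hc] at hij
      rcases hbc with h | h
      · rwa [(map_eq_iff hker _ _).2
          (show PM ((pairHom (b, b) : Sp4) : M4) ((pairHom (c, c) : Sp4) : M4) by
            simp only [pairHom_coe, pairMat_self]
            rcases h with h | h <;> rw [h]
            · exact PM.refl _
            · rw [kron_neg_left]; exact Or.inr rfl)]
      · rw [(map_eq_iff hker (pairHom (b, b)) (pairHom (c * i, c * i))).2
          (show PM ((pairHom (b, b) : Sp4) : M4) ((pairHom (c * i, c * i) : Sp4) : M4) by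
            simp only [pairHom_coe, pairMat_self]
            rcases h with h | h <;> rw [h]
            · exact PM.refl _
            · rw [kron_neg_left]; exact Or.inr rfl),
          ← Prod.mk_mul_mk, map_mul, map_mul]
        refine mul_mem hij ?_
        rw [← wel_sq hodd i hi.2, map_mul]
        exact mul_mem (Subgroup.subset_closure (hw i hi)) (Subgroup.subset_closure (hw i hi))
  have hpair : ∀ a b : SL(2, F), φ (pairHom (a, b)) ∈ N → φ (pairHom (a, b)) ∈ K := by
    intro a b hN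
    have hnP : a ∈ Subgroup.normalizer ((P : Subgroup SL(2, F)) : Set SL(2, F)) ∧
        b ∈ Subgroup.normalizer ((P : Subgroup SL(2, F)) : Set SL(2, F)) := by
      constructor <;> refine Saturation.mem_normalizer_of_forall fun p hp => ?_
      · have := hconj hN (pair_mem_shat P hp (one_mem _))
        rw [← map_inv, ← map_mul, ← map_mul, Prod.inv_mk, Prod.mk_mul_mk, Prod.mk_mul_mk] at this
        exact (of_pair_mem_shat P this).1
      · have := hconj hN (pair_mem_shat P (one_mem _) hp)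
        rw [← map_inv, ← map_mul, ← map_mul, Prod.inv_mk, Prod.mk_mul_mk, Prod.mk_mul_mk] at this
        exact (of_pair_mem_shat P this).2
    have hab : a * b⁻¹ ∈ (P : Subgroup SL(2, F)) := by
      have h := mul_mem (hconj hN (sX_mem_shat P)) (sX_mem_shat P)
      rw [show pairHom (a, b) * sX * (pairHom (a, b))⁻¹ = pairHom (a * b⁻¹, b * a⁻¹) * sX by
        rw [mul_assoc, ← map_inv, Prod.inv_mk, sX_pair, ← mul_assoc, ← map_mul, Prod.mk_mul_mk],
        mul_assoc, sX_mul_self, mul_one] at h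
      exact (of_pair_mem_shat P h).1
    obtain ⟨p, d, hpd, hpb, ⟨k, hk⟩, hdo⟩ := exists_split b
    have hpN := (Subgroup.zpowers_le.2 hnP.2) hpb
    have hp : p ∈ (P : Subgroup SL(2, F)) := sylow_mem_of_pow P hpN hk
    have hq : pairHom (a * b⁻¹ * p, p) ∈ shat P := pair_mem_shat P (mul_mem hab hp) hp
    have hsplit : pairHom (a, b) = pairHom (a * b⁻¹ * p, p) * pairHom (d, d) := by
      rw [← map_mul, Prod.mk_mul_mk, mul_assoc, ← hpd, inv_mul_cancel_right]
    rw [hsplit, map_mul] at hN ⊢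
    refine mul_mem (hSK hq).2 (hodd' d ?_ hdo ((Subgroup.mul_mem_cancel_left _ (hSK hq).1).1 hN))
    refine (Subgroup.mul_mem_cancel_left _ hpN).1 ?_
    rw [← hpd]
    exact hnP.2
  intro h hh
  obtain ⟨A, rfl⟩ := hφ h
  have hsZ := Subgroup.mem_map_of_mem φ (sZ_mem_shat P hodd)
  have hz : φ A * φ sZ * (φ A)⁻¹ = φ sZ := by
    refine central_eq hodd P hker ?_ ?_ ?_
    · rw [← hS] at hsZ ⊢
      exact (Subgroup.mem_normalizer_iff.1 hh _).1 hsZ
    · rw [Ne, conj_eq_one_iff, hker, sZ_coe_pair]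
      intro h1
      rw [← kron_one, ← pairMat_self] at h1
      have hm1 : (1 : M2) ≠ -1 := by
        simpa using ne_neg_self h2 (A := (1 : SL(2, F)))
      rcases h1 with h1 | h1
      · exact hm1 (pairMat_inj h1).2.symm
      · rw [← pairMat_neg] at h1
        exact hm1 (pairMat_inj h1).1
    · intro s hs
      rw [← hS] at hs hsZ
      have hs' := (Subgroup.mem_normalizer_iff.1 (inv_mem hh) s).1 hs
      rw [inv_inv, hS] at hs'
      obtain ⟨B, hB, hBe⟩ := hs'
      have hcomm : φ B * φ sZ = φ sZ * φ B := by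
        rw [map_comm_iff hker]
        obtain ⟨a, b, -, -, rfl | rfl⟩ := hB
        · exact Or.inl (pair_sZ _ _)
        · rw [Submonoid.coe_mul]
          exact PM.comm_mul (Or.inl (pair_sZ _ _)) (Or.inr sX_sZ)
      rw [hBe] at hcomm
      calc s * (φ A * φ sZ * (φ A)⁻¹) = φ A * ((φ A)⁻¹ * s * φ A * φ sZ) * (φ A)⁻¹ := by group
        _ = φ A * (φ sZ * ((φ A)⁻¹ * s * φ A)) * (φ A)⁻¹ := by rw [hcomm]
        _ = φ A * φ sZ * (φ A)⁻¹ * s := by group
  have hpm := (map_comm_iff hker A sZ).1 (mul_inv_eq_iff_eq_mul.1 hz)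
  rcases fix_step hpm (sX_sZ (F := F)) with h | h
  · obtain ⟨a, b, hab⟩ := exists_pair_of_commute h2 h
    have hdet := (pairMat_mem_iff a b).1 (hab ▸ A.2)
    rw [show A = pairHom (⟨a, hdet.1⟩, ⟨b, hdet.2⟩) from Subtype.ext hab] at hh ⊢
    exact hpair _ _ hh
  · rw [← Submonoid.coe_mul] at h
    obtain ⟨a, b, hab⟩ := exists_pair_of_commute h2 h
    have hdet := (pairMat_mem_iff a b).1 (hab ▸ (A * sX).2)
    have hAX : A * sX = pairHom (⟨a, hdet.1⟩, ⟨b, hdet.2⟩) := Subtype.ext hab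
    rw [show A = pairHom (⟨a, hdet.1⟩, ⟨b, hdet.2⟩) * sX by
      rw [← hAX, mul_assoc, sX_mul_self, mul_one], map_mul] at hh ⊢
    have hX := hSK (sX_mem_shat P)
    exact mul_mem (hpair _ _ ((Subgroup.mul_mem_cancel_right _ hX.1).1 hh)) hX.2

theorem isSimple_of_kerPM {φ : Sp4 →* G} (hker : KerPM φ) (hφ : Function.Surjective φ)
    (S : Sylow 2 G) : (groupFusionSystem (S : Subgroup G)).IsSimple 2 := by
  obtain ⟨P⟩ : Nonempty (Sylow 2 SL(2, F)) := inferInstance
  obtain ⟨g, hS⟩ := exists_map_eq P hodd φ hφ S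
  set ψ := (MulAut.conj g).toMonoidHom.comp φ with hψd
  have hker' : KerPM ψ := fun A => by
    rw [hψd, MonoidHom.comp_apply, MulEquiv.coe_toMonoidHom, MulEquiv.map_eq_one_iff]
    exact hker A
  have hψ : Function.Surjective ψ := (MulAut.conj g).surjective.comp hφ
  refine SimpleCriterion.isSimple ?_ (fun T hT => or_iff_not_imp_left.2 fun hne =>
    closed_eq hodd P hker' S hS hT hne) (normalizer_le hodd P hker' hψ S hS)
  rw [hS, Ne, Subgroup.map_eq_bot_iff]
  intro hle
  have h1 := (hker' sZ).1 (hle (sZ_mem_shat P hodd))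
  rw [sZ_coe_pair, ← kron_one, ← pairMat_self] at h1
  have h2 := Classical.SylowSL2.two_ne_zero_of_odd hodd
  have hm1 : (1 : M2) ≠ -1 := by
    simpa using ne_neg_self h2 (A := (1 : SL(2, F)))
  rcases h1 with h1 | h1
  · exact hm1 (pairMat_inj h1).2.symm
  · rw [← pairMat_neg] at h1
    exact hm1 (pairMat_inj h1).1

end Main

end Cfsg.Agent.Fusion.SimpleSpFour
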